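import Cfsg.Agent.Omega.OM.TV.Plug
import Cfsg.Agent.Omega.OM.PT.Pc

/-!
# TEXT W2 #24006 (6) with `B = T`, a Sylow 2-subgroup of `N_G(Z 0)` and `N_G(Z 1)`; `O₂(H_i / C(N_i)) = 1`

* `core_gen`, `coreP_of`, `coreP` : `CoreP Z i` from a Sylow 2-subgroup `T` of `N_G(Z i)` and `z ≤ N_i`, `[z, T] = 1`,
  `N_i = ⟨z ^ N_G(Z i)⟩`;
* `com_T` : (6) for a Sylow 2-subgroup `T` with `C_{N_i}(T) ≤ Z_0Z_1`.
-/

set_option autoImplicit false
set_option linter.unusedSectionVars false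

namespace Cfsg.Agent.Omega.OM.TV

open Subgroup Cfsg Cfsg.Agent.ZN.ChoiceBase
open Cfsg.Agent.ZN (zc o2)
open Cfsg.Agent.ZN.ChoiceSit (Syl exists_syl syl_conj syl_not_dvd o2_le_syl)
open Cfsg.Agent.Omega.MinPar (NonLoc)
open Cfsg.Agent.Omega.OM.PG (HH QQ)
open scoped Pointwise

universe u

variable {G : Type u} [Group G] [Finite G]

omit [Finite G] in
/-- `|F ⊔ X : F| = |X : F ∩ X|` for `X ≤ N(F)` -/
theorem relIndex_sup_nor {F X : Subgroup G} (h : X ≤ normalizer (F : Set G)) :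
    F.relIndex (F ⊔ X) = F.relIndex X := by
  have hF : F ≤ F ⊔ X := le_sup_left
  have hX : X ≤ F ⊔ X := le_sup_right
  have hn : (F.subgroupOf (F ⊔ X)).Normal := by
    rw [← normalizer_eq_top_iff, eq_top_iff]
    have h1 : F ⊔ X ≤ normalizer (F : Set G) := sup_le Subgroup.le_normalizer h
    rintro ⟨x, hx⟩ -
    rw [mem_normalizer_iff]
    rintro ⟨y, hy⟩
    simp only [mem_subgroupOf]
    exact mem_normalizer_iff.1 (h1 hx) y
  have h1 := relIndex_sup_left (X.subgroupOf (F ⊔ X)) (F.subgroupOf (F ⊔ X))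
  have h2 : F.subgroupOf (F ⊔ X) ⊔ X.subgroupOf (F ⊔ X) = (F ⊔ X).subgroupOf (F ⊔ X) :=
    (subgroupOf_sup hF hX).symm
  rw [h2] at h1
  rwa [relIndex_subgroupOf le_rfl, relIndex_subgroupOf hX] at h1

/-- `O₂(H / C_H(N)) = 1` if `N = ⟨z ^ H⟩`, `z` centralised by a Sylow 2-subgroup `T` of `H`. -/
theorem core_gen {H N T z J : Subgroup G} (hNn : H ≤ normalizer (N : Set G)) (hSylT : Syl T H) (hzN : z ≤ N)
    (hzT : z ≤ centralizer (T : Set G)) (hgen : ∀ E : Subgroup G, z ≤ E → H ≤ normalizer (E : Set G) → N ≤ E)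
    (hJ : J ≤ H) (hn : H ≤ normalizer (J : Set G)) (hsq : ∀ y ∈ J, y * y ∈ centralizer (N : Set G)) :
    J ≤ centralizer (N : Set G) := by
  have : Fact (Nat.Prime 2) := ⟨Nat.prime_two⟩
  set F : Subgroup G := H ⊓ centralizer (N : Set G) with hF
  set M : Subgroup G := F ⊔ J with hM
  have hFH : F ≤ H := inf_le_left
  have hMH : M ≤ H := sup_le hFH hJ
  have hFn : H ≤ normalizer (F : Set G) := by
    intro x hx
    rw [mem_normalizer_iff_cj, hF, cj_inf, cj_centralizer, cj_eq_of_mem_normalizer (hNn hx),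
      cj_eq_of_mem_normalizer (Subgroup.le_normalizer hx)]
  have hMn : H ≤ normalizer (M : Set G) := by
    intro x hx
    rw [mem_normalizer_iff_cj, hM]
    refine (NO3S.EThree.conj_sup' x F J).trans ?_
    exact congrArg₂ (· ⊔ ·) (cj_eq_of_mem_normalizer (hFn hx)) (cj_eq_of_mem_normalizer (hn hx))
  have hTH : T ≤ H := hSylT.1
  -- `|M : F|` is a power of 2
  have h1 : ∃ n, F.relIndex M = 2 ^ n := by
    rw [hM, relIndex_sup_nor (hJ.trans hFn)]
    have hnor : (F.subgroupOf J).Normal := by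
      rw [← normalizer_eq_top_iff, eq_top_iff]
      rintro ⟨x, hx⟩ -
      rw [mem_normalizer_iff]
      rintro ⟨y, hy⟩
      simp only [mem_subgroupOf]
      exact mem_normalizer_iff.1 (hFn (hJ hx)) y
    have h2 : IsPGroup 2 (J ⧸ F.subgroupOf J) := by
      intro x
      obtain ⟨y, rfl⟩ := QuotientGroup.mk'_surjective _ x
      refine ⟨1, ?_⟩
      rw [← map_pow, pow_one, pow_two, QuotientGroup.mk'_apply, QuotientGroup.eq_one_iff, mem_subgroupOf]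
      exact ⟨hJ (y * y).2, hsq y y.2⟩
    obtain ⟨n, hn⟩ := IsPGroup.iff_card.1 h2
    exact ⟨n, by rw [relIndex, index, hn]⟩
  set R₀ : Subgroup G := T ⊓ M with hR₀
  -- `R₀` is Sylow in `M`
  have hSyl : Syl R₀ M := by
    refine ⟨inf_le_right, hSylT.2.1.to_le inf_le_left, fun Q hQ h2 hle => ?_⟩
    obtain ⟨Q', hQ', hQQ'⟩ := exists_syl h2 (hQ.trans hMH)
    obtain ⟨x, hx, e⟩ := syl_conj hSylT hQ'
    have h1 : Q ≤ cj x R₀ := by
      rw [hR₀, cj_inf, e, cj_eq_of_mem_normalizer (hMn hx)]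
      exact le_inf hQQ' hQ
    symm
    exact Subgroup.eq_of_le_of_card_ge hle ((Subgroup.card_le_of_le h1).trans (card_cj _ _).le)
  -- `F ⊔ R₀ = M`
  have h3 : F ⊔ R₀ = M := by
    refine le_antisymm (sup_le le_sup_left inf_le_right) ?_
    rw [← relIndex_eq_one]
    obtain ⟨n, hn⟩ := h1
    have e1 : (F ⊔ R₀).relIndex M ∣ 2 ^ n := hn ▸ relIndex_dvd_of_le_left _ le_sup_left
    have e2 : (F ⊔ R₀).relIndex M ∣ R₀.relIndex M := relIndex_dvd_of_le_left _ le_sup_right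
    obtain ⟨a, -, ha⟩ := (Nat.dvd_prime_pow Nat.prime_two).1 e1
    rcases Nat.eq_zero_or_pos a with rfl | ha0
    · simpa using ha
    · exact absurd ((dvd_pow_self 2 ha0.ne').trans (ha ▸ e2)) (syl_not_dvd hSyl)
  -- Frattini
  have hfr : ∀ x ∈ H, ∃ f ∈ F, ∃ n ∈ H, n ∈ normalizer (R₀ : Set G) ∧ x = f * n := by
    intro x hx
    have h1 : Syl (cj x R₀) M := by
      refine ⟨?_, isPGroup_cj x hSyl.2.1, fun Q hQ h2 hle => ?_⟩
      · have := cj_mono x hSyl.1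
        rwa [cj_eq_of_mem_normalizer (hMn hx)] at this
      · have h3 := cj_mono x⁻¹ hQ
        rw [cj_eq_of_mem_normalizer (hMn (inv_mem hx))] at h3
        have h4 := hSyl.2.2 (cj x⁻¹ Q) h3 (isPGroup_cj _ h2) (cj_le_iff.1 hle)
        rw [← h4, cj_cj_inv]
    obtain ⟨y, hy, e⟩ := syl_conj hSyl h1
    -- `y = f r`
    have hRF : R₀ ≤ normalizer (F : Set G) := (inf_le_left.trans hTH).trans hFn
    have hy' : y ∈ ((F ⊔ R₀ : Subgroup G) : Set G) := by rw [h3]; exact hy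
    rw [Subgroup.coe_mul_of_right_le_normalizer_left _ _ hRF, Set.mem_mul] at hy'
    obtain ⟨f, hf, r, hr, rfl⟩ := hy'
    refine ⟨f, hf, f⁻¹ * x, mul_mem (inv_mem (hFH hf)) hx, ?_, by group⟩
    rw [mem_normalizer_iff_cj, ← cj_cj, ← e, cj_cj, inv_mul_cancel_left,
      cj_eq_of_mem_normalizer (Subgroup.le_normalizer hr)]
  -- `E = C_N(R₀)` is normalised by `H`
  set E : Subgroup G := N ⊓ centralizer (R₀ : Set G) with hE
  have hEn : H ≤ normalizer (E : Set G) := by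
    intro x hx
    obtain ⟨f, hf, n, hnH, hnR, rfl⟩ := hfr x hx
    refine mul_mem ?_ ?_
    · refine centralizer_le_normalizer _ (centralizer_le ?_ hf.2)
      exact_mod_cast (inf_le_left : E ≤ N)
    · rw [mem_normalizer_iff_cj, hE, cj_inf, cj_centralizer, cj_eq_of_mem_normalizer (hNn hnH),
        cj_eq_of_mem_normalizer hnR]
  have h2 : z ≤ E := by
    refine le_inf hzN (hzT.trans (centralizer_le ?_))
    exact_mod_cast (inf_le_left : R₀ ≤ T)
  have h4 : N ≤ E := hgen E h2 hEn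
  have h5 : R₀ ≤ centralizer (N : Set G) := by
    rw [le_centralizer_iff]
    exact h4.trans inf_le_right
  have h6 : M ≤ centralizer (N : Set G) := by
    rw [← h3]
    exact sup_le inf_le_right h5
  exact le_sup_right.trans h6

theorem coreP_of {Z : Fin 2 → Subgroup G} {i : Fin 2} {T z : Subgroup G} (hT : Syl T (HH (Z i)))
    (hzN : z ≤ PT.NN Z (Z i)) (hzT : z ≤ centralizer (T : Set G))
    (hgen : ∀ E : Subgroup G, z ≤ E → HH (Z i) ≤ normalizer (E : Set G) → PT.NN Z (Z i) ≤ E) : PT.Pc.CoreP Z i :=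
  fun _ hJ hn hsq => core_gen (PT.PP.HH_le_NN (Z i)) hT hzN hzT hgen hJ hn hsq

/-- `O₂(H_i / C(N_i)) = 1` if `[Z (i+1), T] = 1`. -/
theorem coreP {Z U : Fin 2 → Subgroup G} (P : PT.PP Z U) {i : Fin 2} {T : Subgroup G} (hT : Syl T (HH (Z i)))
    (hzT : Z (i + 1) ≤ centralizer (T : Set G)) : PT.Pc.CoreP Z i := by
  refine coreP_of hT (PT.adj Z i).le_NN hzT fun E hE hn => sSup_le fun u hu => ?_
  obtain ⟨g, h1, rfl⟩ := P.con (PT.adj Z i) hu
  have h2 : g ∈ HH (Z i) := mem_normalizer_iff_cj.2 h1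
  rw [← NOThreeL.Pair.conj_eq_of_mem (hn h2)]
  exact NoFF.Basic.conj_le_iff.2 hE

/-- **(6)** for a Sylow 2-subgroup `T` of `N_G(Z 0)`, `N_G(Z 1)` with `C_{N_i}(T) ≤ Z_0Z_1`. -/
theorem com_T {Z U : Fin 2 → Subgroup G} (P : PT.PP Z U) (X : PT.XF Z (PT.XW Z U)) (hti : PT.TIp Z)
    (hfus : ∀ a, PT.IsPt Z a → ∀ x ∈ a, x ∈ Z 0 ⊔ Z 1 → x ≠ 1 → a = Z 0 ∨ a = Z 1)
    (htra : ∀ i, ∀ x ∈ U i, x ≠ 1 → ∃ l : G, x ∈ MulAut.conj l • Z i ∧ MulAut.conj l • Z (i + 1) = Z (i + 1) ∧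
      MulAut.conj l • U i = U i ∧ MulAut.conj l • U (i + 1) = U (i + 1))
    (hcard : ∀ i, Nat.card (U i) = Nat.card (Z i) ^ 2)
    (hcore : ∀ i, PT.Pc.CoreP Z i) {T : Subgroup G} (hT2 : IsPGroup 2 T) (hTZ : ∀ i, T ≤ normalizer (Z i : Set G))
    (hfix : ∀ i, PT.NN Z (Z i) ⊓ centralizer (T : Set G) ≤ Z 0 ⊔ Z 1)
    (hint : PT.NN Z (Z 0) ⊓ PT.NN Z (Z 1) ≤ Z 0 ⊔ Z 1) : PT.Com Z (Z 0) (Z 1) := by
  have H : TIn Z U T :=
    { P := P
      X := X
      ti := hti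
      fus := hfus
      tra := htra
      cardU := hcard
      core := hcore
      B2 := hT2
      BZ := hTZ
      int := hint
      Bfix := fun i n hn h => hfix i ⟨hn, mem_centralizer_iff.2 fun t ht => by
        rw [← mul_inv_eq_iff_eq_mul]; exact h t ht⟩ }
  exact H.com

/-- `C_{N_i}(T) ≤ Ω₁Z(T)` -/
theorem fix_T {Z U : Fin 2 → Subgroup G} (P : PT.PP Z U) {i : Fin 2} {T : Subgroup G} (hT : Syl T (HH (Z i))) :
    PT.NN Z (Z i) ⊓ centralizer (T : Set G) ≤ zc T := by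
  rintro n ⟨hn, hnT⟩
  refine MinSimple.VModule.mem_zc.2 ⟨o2_le_syl hT (P.N_le_Q i hn), fun t ht => mem_centralizer_iff.1 hnT t ht, ?_⟩
  exact (NO3S.EThree.ExactA.eab_iff.1 (P.NN_eab (PT.isPt Z i))).2 n hn

end Cfsg.Agent.Omega.OM.TV
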