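import Cfsg.Agent.Omega.NO3S.EThree.TL

/-!
# Two types of points, no swap (helper918, TEXT W2 #24006 (6)): base

Points are the conjugates of `Z 0` and of `Z 1`, lines the conjugates of `U 0`, `U 1`;
`Adj Z a u` : `(a, u)` is conjugate to `(Z i, Z (i + 1))`; `NN Z a = ⟨u : u ~ a⟩`; `LnOn Z U a l` : `(a, l)` is conjugate
to `(Z i, U i)`.

`TQ0 Z U` : the transvection case `1 ≠ [N_0, N_1] ≤ Z_0Z_1`, `|Z_0| = |Z_1|`; the facts of `NO3S/EThree/TQ.lean` which do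
not use the index.
-/

set_option autoImplicit false
set_option linter.unusedSectionVars false

namespace Cfsg.Agent.Omega.OM.TV

open Subgroup Cfsg Cfsg.Agent.ZN Cfsg.Agent.Omega.MinPar
open Cfsg.Agent.Omega.NoFF.Basic (conj_conj mem_conj conj_le_iff conj_le_centralizer comm_symm comm_mono)
open Cfsg.Agent.Omega.NOThreeL.Pair (conj_eq_of_mem)
open Cfsg.Agent.Omega.OM.PG (HH QQ HH_conj QQ_conj conj_inv_conj inv_conj_conj)
open Cfsg.Agent.Omega.NO3S.EThree (conj_sup' conj_centralizer relIndex_conj mem_sup_of_comm norm_conj conj_norm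
  conj_normalizer mem_conj_self)
open scoped Pointwise

universe u

variable {G : Type u} [Group G]

/-- `a` is a point. -/
def IsPt (Z : Fin 2 → Subgroup G) (a : Subgroup G) : Prop := ∃ (i : Fin 2) (k : G), a = MulAut.conj k • Z i

/-- `a ~ u` -/
def Adj (Z : Fin 2 → Subgroup G) (a u : Subgroup G) : Prop :=
  ∃ (i : Fin 2) (k : G), a = MulAut.conj k • Z i ∧ u = MulAut.conj k • Z (i + 1)

/-- `l` is a line on the point `a`. -/
def LnOn (Z U : Fin 2 → Subgroup G) (a l : Subgroup G) : Prop :=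
  ∃ (i : Fin 2) (k : G), a = MulAut.conj k • Z i ∧ l = MulAut.conj k • U i

/-- `N_a = ⟨u : u ~ a⟩` -/
def NN (Z : Fin 2 → Subgroup G) (a : Subgroup G) : Subgroup G := sSup {u | Adj Z a u}

theorem f2 (i : Fin 2) : i + 1 + 1 = i := by
  revert i
  decide

theorem f01 (i : Fin 2) : i = 0 ∨ i = 1 := by
  revert i
  decide

section conj

variable {Z U : Fin 2 → Subgroup G} {a u l : Subgroup G}

theorem IsPt.conj (h : IsPt Z a) (g : G) : IsPt Z (MulAut.conj g • a) := by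
  obtain ⟨i, k, rfl⟩ := h
  exact ⟨i, g * k, conj_conj _ _ _⟩

theorem Adj.conj (h : Adj Z a u) (g : G) : Adj Z (MulAut.conj g • a) (MulAut.conj g • u) := by
  obtain ⟨i, k, rfl, rfl⟩ := h
  exact ⟨i, g * k, conj_conj _ _ _, conj_conj _ _ _⟩

theorem LnOn.conj (h : LnOn Z U a l) (g : G) : LnOn Z U (MulAut.conj g • a) (MulAut.conj g • l) := by
  obtain ⟨i, k, rfl, rfl⟩ := h
  exact ⟨i, g * k, conj_conj _ _ _, conj_conj _ _ _⟩

theorem Adj.pt (h : Adj Z a u) : IsPt Z a := by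
  obtain ⟨i, k, rfl, -⟩ := h
  exact ⟨i, k, rfl⟩

theorem Adj.le_NN (h : Adj Z a u) : u ≤ NN Z a := le_sSup h

theorem Adj.symm (h : Adj Z a u) : Adj Z u a := by
  obtain ⟨i, k, rfl, rfl⟩ := h
  exact ⟨i + 1, k, rfl, by rw [f2]⟩

theorem isPt_Z (i : Fin 2) : IsPt Z (Z i) := ⟨i, 1, by rw [map_one, one_smul]⟩

theorem adj_Z (i : Fin 2) : Adj Z (Z i) (Z (i + 1)) := ⟨i, 1, by rw [map_one, one_smul], by rw [map_one, one_smul]⟩

theorem NN_conj (g : G) (a : Subgroup G) : NN Z (MulAut.conj g • a) = MulAut.conj g • NN Z a := by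
  have key : ∀ (g : G) (a : Subgroup G), MulAut.conj g • NN Z a ≤ NN Z (MulAut.conj g • a) := by
    intro g a
    have h1 : NN Z a ≤ MulAut.conj g⁻¹ • NN Z (MulAut.conj g • a) := by
      refine sSup_le fun u hu => ?_
      have h2 := (Adj.conj hu g).le_NN
      have h3 := conj_le_iff (g := g⁻¹) |>.2 h2
      rwa [inv_conj_conj] at h3
    have h3 := conj_le_iff (g := g) |>.2 h1
    rwa [conj_inv_conj] at h3
  refine le_antisymm ?_ (key g a)
  have h1 := key g⁻¹ (MulAut.conj g • a)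
  rw [inv_conj_conj] at h1
  have h3 := conj_le_iff (g := g) |>.2 h1
  rwa [conj_inv_conj] at h3

theorem HH_le_NN (a : Subgroup G) : HH a ≤ normalizer (NN Z a : Set G) := by
  intro g hg
  have h0 : MulAut.conj g • a = a := conj_eq_of_mem hg
  refine ChoiceBase.mem_normalizer_iff_cj.2 ?_
  change MulAut.conj g • NN Z a = NN Z a
  rw [← NN_conj, h0]

end conj

/-- the transvection case, two types of points -/
structure TQ0 (Z U : Fin 2 → Subgroup G) : Prop where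
  ZU : ∀ i, Z i ≤ U i
  sq : ∀ i, ∀ x ∈ Z i, x ^ 2 = 1
  ne : ∀ i, Z i ≠ ⊥
  /-- a group normalising `Z (i + 1)`, `U 0`, `U 1` is transitive on the points of `U i` -/
  tr : ∀ (i : Fin 2) (y : Subgroup G), IsPt Z y → y ≤ U i → ∃ l : G, MulAut.conj l • Z i = y ∧
    MulAut.conj l • Z (i + 1) = Z (i + 1) ∧ MulAut.conj l • U i = U i ∧ MulAut.conj l • U (i + 1) = U (i + 1)
  NQ : ∀ i, NN Z (Z i) ≤ QQ (Z i)
  QC : ∀ i, QQ (Z i) ≤ centralizer (NN Z (Z i) : Set G)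
  nonLoc : NonLoc (HH (Z 0)) (HH (Z 1))
  card : Nat.card (Z 1) = Nat.card (Z 0)
  ti : ∀ a b, IsPt Z a → IsPt Z b → ∀ x ∈ a, x ∈ b → x ≠ 1 → a = b
  fus : ∀ a, IsPt Z a → ∀ x ∈ a, x ∈ Z 0 ⊔ Z 1 → x ≠ 1 → a = Z 0 ∨ a = Z 1
  self : ∀ i, NN Z (Z i) ≤ centralizer (Z i : Set G)
  com : ∀ n ∈ NN Z (Z 0), ∀ t ∈ NN Z (Z 1), n * t * n⁻¹ * t⁻¹ ∈ Z 0 ⊔ Z 1
  nc : ¬ NN Z (Z 0) ≤ centralizer (NN Z (Z 1) : Set G)
  pts : ∀ i, ∀ x ∈ U i, x ≠ 1 → ∃ w, IsPt Z w ∧ w ≤ U i ∧ x ∈ w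
  cardU : ∀ i, Nat.card (U i) = Nat.card (Z 0) ^ 2
  UQ' : ∀ i, U i ≤ QQ (Z i)

/-- The transvection case with the index. -/
structure TQ (Z U : Fin 2 → Subgroup G) : Prop extends TQ0 Z U where
  idx : ∀ i, (centralizer (NN Z (Z (i + 1)) : Set G)).relIndex (NN Z (Z i)) = Nat.card (Z 0)

namespace TQ0

variable [Finite G] {Z U : Fin 2 → Subgroup G} (P : TQ0 Z U)
include P

theorem adj_symm {a u : Subgroup G} (h : Adj Z a u) : Adj Z u a := h.symm

theorem adj_pt {a u : Subgroup G} (h : Adj Z a u) : IsPt Z u := h.symm.pt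

theorem NN_le_QQ {a : Subgroup G} (h : IsPt Z a) : NN Z a ≤ QQ a := by
  obtain ⟨i, k, rfl⟩ := h
  rw [NN_conj, QQ_conj]
  exact conj_le_iff.2 (P.NQ i)

theorem QQ_le_cent {a : Subgroup G} (h : IsPt Z a) : QQ a ≤ centralizer (NN Z a : Set G) := by
  obtain ⟨i, k, rfl⟩ := h
  rw [NN_conj, QQ_conj]
  exact conj_le_centralizer (P.QC i)

theorem NN_comm {a : Subgroup G} (h : IsPt Z a) : NN Z a ≤ centralizer (NN Z a : Set G) :=
  (P.NN_le_QQ h).trans (P.QQ_le_cent h)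

/-- `a ~ u`: `Q_u` centralises `a`. -/
theorem QQ_le_cent_of_adj {a u : Subgroup G} (h : Adj Z a u) : QQ u ≤ centralizer (a : Set G) :=
  (P.QQ_le_cent (P.adj_pt h)).trans (centralizer_le (P.adj_symm h).le_NN)

theorem ZsqConj {a : Subgroup G} (h : IsPt Z a) : ∀ x ∈ a, x ^ 2 = 1 := by
  obtain ⟨i, k, rfl⟩ := h
  exact NoFF.Lines.Geo.conj_sq (P.sq i) k

theorem cardZ (i : Fin 2) : Nat.card (Z i) = Nat.card (Z 0) := by
  rcases f01 i with h | h
  · subst h; rfl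
  · subst h; exact P.card

theorem card_pt {a : Subgroup G} (h : IsPt Z a) : Nat.card a = Nat.card (Z 0) := by
  obtain ⟨i, k, rfl⟩ := h
  rw [← P.cardZ i]
  exact (Nat.card_congr (Subgroup.equivSMul (MulAut.conj k) (Z i)).toEquiv).symm

theorem exists_ne {a : Subgroup G} (h : IsPt Z a) : ∃ x ∈ a, x ≠ 1 := by
  by_contra hcon
  push Not at hcon
  have h1 : a = ⊥ := (eq_bot_iff_forall _).2 hcon
  have h2 := P.card_pt h
  rw [h1, card_bot] at h2
  exact P.ne 0 (Subgroup.card_eq_one.1 h2.symm)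

theorem fusZ (i : Fin 2) {w : Subgroup G} (hw : IsPt Z w) {x : G} (hx : x ∈ w) (hx' : x ∈ Z i ⊔ Z (i + 1))
    (hx1 : x ≠ 1) : w = Z i ∨ w = Z (i + 1) := by
  rcases f01 i with h | h
  · subst h
    exact P.fus w hw x hx hx' hx1
  · subst h
    have e : (1 : Fin 2) + 1 = 0 := rfl
    rw [e] at hx' ⊢
    rw [sup_comm] at hx'
    exact (P.fus w hw x hx hx' hx1).symm

theorem fus' {a u w : Subgroup G} (h : Adj Z a u) (hw : IsPt Z w) {x : G} (hx : x ∈ w) (hx' : x ∈ a ⊔ u)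
    (hx1 : x ≠ 1) : w = a ∨ w = u := by
  obtain ⟨i, k, rfl, rfl⟩ := h
  rw [← conj_sup', mem_conj] at hx'
  have h1 : k⁻¹ * x * k ∈ MulAut.conj k⁻¹ • w := by
    rw [mem_conj]
    have : k⁻¹⁻¹ * (k⁻¹ * x * k) * k⁻¹ = x := by group
    rwa [this]
  have h2 : k⁻¹ * x * k ≠ 1 := by
    intro e
    apply hx1
    have : x = k * (k⁻¹ * x * k) * k⁻¹ := by group
    rw [this, e]; group
  rcases P.fusZ i (hw.conj k⁻¹) h1 hx' h2 with h3 | h3
  · left; rw [← h3, conj_inv_conj]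
  · right; rw [← h3, conj_inv_conj]

theorem self' {a : Subgroup G} (h : IsPt Z a) : NN Z a ≤ centralizer (a : Set G) := by
  obtain ⟨i, k, rfl⟩ := h
  rw [NN_conj]
  exact conj_le_centralizer (P.self i)

theorem self_le {a : Subgroup G} (h : IsPt Z a) : a ≤ centralizer (NN Z a : Set G) := comm_symm (P.self' h)

/-- `N_u` centralises `a ~ u`. -/
theorem NN_le_cent {a u : Subgroup G} (h : Adj Z a u) : NN Z u ≤ centralizer (a : Set G) :=
  (P.NN_le_QQ (P.adj_pt h)).trans (P.QQ_le_cent_of_adj h)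

theorem comZ (i : Fin 2) {n t : G} (hn : n ∈ NN Z (Z i)) (ht : t ∈ NN Z (Z (i + 1))) :
    n * t * n⁻¹ * t⁻¹ ∈ Z i ⊔ Z (i + 1) := by
  rcases f01 i with h | h
  · subst h
    exact P.com n hn t ht
  · subst h
    have e : (1 : Fin 2) + 1 = 0 := rfl
    rw [e] at ht ⊢
    rw [sup_comm]
    have h1 := inv_mem (P.com t ht n hn)
    have e1 : (t * n * t⁻¹ * n⁻¹)⁻¹ = n * t * n⁻¹ * t⁻¹ := by group
    rwa [e1] at h1

theorem com' {a u : Subgroup G} (h : Adj Z a u) {n t : G} (hn : n ∈ NN Z a) (ht : t ∈ NN Z u) :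
    n * t * n⁻¹ * t⁻¹ ∈ a ⊔ u := by
  obtain ⟨i, k, rfl, rfl⟩ := h
  rw [NN_conj, mem_conj] at hn ht
  rw [← conj_sup', mem_conj]
  have := P.comZ i hn ht
  have e : k⁻¹ * n * k * (k⁻¹ * t * k) * (k⁻¹ * n * k)⁻¹ * (k⁻¹ * t * k)⁻¹ = k⁻¹ * (n * t * n⁻¹ * t⁻¹) * k := by
    group
  rwa [e] at this

theorem one_lt : 1 < Nat.card (Z 0) := by
  have h1 : Nat.card (Z 0) ≠ 1 := fun e => P.ne 0 (Subgroup.card_eq_one.1 e)
  have h2 : 0 < Nat.card (Z 0) := Nat.card_pos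
  omega

theorem ncZ (i : Fin 2) : ¬ NN Z (Z i) ≤ centralizer (NN Z (Z (i + 1)) : Set G) := by
  rcases f01 i with h | h
  · subst h
    exact P.nc
  · subst h
    exact fun h1 => P.nc (comm_symm h1)

theorem not_com {a u : Subgroup G} (h : Adj Z a u) : ¬ NN Z a ≤ centralizer (NN Z u : Set G) := by
  intro h1
  obtain ⟨i, k, rfl, rfl⟩ := h
  apply P.ncZ i
  rw [NN_conj, NN_conj, ← conj_centralizer] at h1
  exact conj_le_iff.1 h1

theorem adj_ne {a u : Subgroup G} (h : Adj Z a u) : a ≠ u := by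
  rintro rfl
  exact P.not_com h (P.NN_comm h.pt)

theorem pt_le_NN {a u : Subgroup G} (h : Adj Z a u) : u ≤ NN Z a := h.le_NN

/-- if `t` centralises an element `≠ 1` of the point `w` (or maps it into `w`), it normalises `w` -/
theorem norm_of {w : Subgroup G} (hw : IsPt Z w) {x t : G} (hx : x ∈ w) (hx1 : x ≠ 1) (h : t * x * t⁻¹ ∈ w) :
    MulAut.conj t • w = w := by
  refine P.ti _ _ (hw.conj t) hw (t * x * t⁻¹) ?_ h ?_
  · rw [mem_conj]
    have : t⁻¹ * (t * x * t⁻¹) * t = x := by group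
    rwa [this]
  · intro e
    exact hx1 (conj_eq_one_iff.1 e)

/-- `t ∈ N_u` normalising a point `w ~ a`, `w ≠ u`, centralises it -/
theorem cent_of_norm {a u w : Subgroup G} (h : Adj Z a u) (hw : Adj Z a w) (hwu : w ≠ u) {t : G}
    (ht : t ∈ NN Z u) (hn : MulAut.conj t • w = w) {y : G} (hy : y ∈ w) : y * t = t * y := by
  by_contra hne
  have h1 : t * y⁻¹ * t⁻¹ ∈ w := by
    rw [← hn, mem_conj]
    have : t⁻¹ * (t * y⁻¹ * t⁻¹) * t = y⁻¹ := by group
    rw [this]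
    exact inv_mem hy
  have h2 : y * t * y⁻¹ * t⁻¹ ∈ w := by
    have : y * t * y⁻¹ * t⁻¹ = y * (t * y⁻¹ * t⁻¹) := by group
    rw [this]
    exact mul_mem hy h1
  have h3 : y * t * y⁻¹ * t⁻¹ ≠ 1 := by
    intro e
    apply hne
    have : y * t = y * t * y⁻¹ * t⁻¹ * (t * y) := by group
    rw [this, e, one_mul]
  rcases P.fus' h (P.adj_pt hw) h2 (P.com' h (hw.le_NN hy) ht) h3 with e | e
  · exact P.adj_ne hw e.symm
  · exact hwu e

theorem ne_of_moved {u w : Subgroup G} (hu : IsPt Z u) (hw : ¬ w ≤ centralizer (NN Z u : Set G)) : w ≠ u := by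
  rintro rfl
  exact hw (P.self_le hu)

/-- `w ~ a` not centralised by `N_u`: `C_w(N_u) = 1` -/
theorem cen_one {a u w : Subgroup G} (h : Adj Z a u) (hw : Adj Z a w) (hwu : ¬ w ≤ centralizer (NN Z u : Set G))
    {x : G} (hx : x ∈ w) (hxc : x ∈ centralizer (NN Z u : Set G)) : x = 1 := by
  by_contra hx1
  apply hwu
  intro y hy
  refine mem_centralizer_iff.2 fun t ht => ?_
  have h1 : MulAut.conj t • w = w := by
    refine P.norm_of (P.adj_pt hw) hx hx1 ?_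
    have := mem_centralizer_iff.1 hxc t ht
    rwa [this, mul_inv_cancel_right]
  exact (P.cent_of_norm h hw (P.ne_of_moved (P.adj_pt h) hwu) ht h1 hy).symm

theorem exists_moved {a u : Subgroup G} (h : Adj Z a u) : ∃ w, Adj Z a w ∧ ¬ w ≤ centralizer (NN Z u : Set G) := by
  by_contra hcon
  push Not at hcon
  exact P.not_com h (sSup_le fun w hw => hcon w hw)

theorem mem_au {a u : Subgroup G} (h : Adj Z a u) {g : G} (hg : g ∈ a ⊔ u) : ∃ α ∈ a, ∃ υ ∈ u, g = α * υ :=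
  mem_sup_of_comm (h.le_NN.trans (P.self' h.pt)) hg

theorem comm_cent {a u : Subgroup G} (h : Adj Z a u) : a ⊔ u ≤ centralizer (NN Z u : Set G) :=
  sup_le (comm_symm (P.NN_le_cent h)) (P.self_le (P.adj_pt h))

/-- elements of `N_u` normalise `N_a` -/
theorem conj_NN {a u : Subgroup G} (h : Adj Z a u) {t : G} (ht : t ∈ NN Z u) : MulAut.conj t • NN Z a = NN Z a := by
  rw [← NN_conj]
  congr 1
  exact conj_eq_of_mem (centralizer_le_normalizer _ (P.NN_le_cent h ht))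

theorem conj_pt {a u : Subgroup G} (h : Adj Z a u) {t : G} (ht : t ∈ NN Z u) : MulAut.conj t • a = a :=
  conj_eq_of_mem (centralizer_le_normalizer _ (P.NN_le_cent h ht))

theorem abN {a : Subgroup G} (h : IsPt Z a) {x y : G} (hx : x ∈ NN Z a) (hy : y ∈ NN Z a) : x * y = y * x :=
  (mem_centralizer_iff.1 (P.NN_comm h hx) y hy).symm

/-- `a` commutes with `N_a` -/
theorem aN {a : Subgroup G} (h : IsPt Z a) {x y : G} (hx : x ∈ a) (hy : y ∈ NN Z a) : x * y = y * x :=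
  mem_centralizer_iff.1 (P.self' h hy) x hx

theorem sqN {a : Subgroup G} (h : IsPt Z a) {x y : G} (hx : x ∈ a) (hy : y ∈ a) : x * y = y * x := by
  obtain ⟨i, k, rfl⟩ := h
  rw [mem_conj] at hx hy
  have h0 : ∀ x ∈ Z i, x * x = 1 := fun x hx => by rw [← pow_two, P.sq i x hx]
  have key : ∀ x ∈ Z i, ∀ y ∈ Z i, x * y = y * x := by
    intro x hx y hy
    have h1 := h0 _ (mul_mem hx hy)
    have h2 : x⁻¹ = x := inv_eq_of_mul_eq_one_left (h0 x hx)
    have h3 : y⁻¹ = y := inv_eq_of_mul_eq_one_left (h0 y hy)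
    calc x * y = (x * y)⁻¹ := (inv_eq_of_mul_eq_one_left h1).symm
      _ = y⁻¹ * x⁻¹ := mul_inv_rev _ _
      _ = y * x := by rw [h2, h3]
  have := key _ hx _ hy
  have e1 : x * y = k * (k⁻¹ * x * k * (k⁻¹ * y * k)) * k⁻¹ := by group
  have e2 : y * x = k * (k⁻¹ * y * k * (k⁻¹ * x * k)) * k⁻¹ := by group
  rw [e1, this, e2]

end TQ0

namespace TQ

variable [Finite G] {Z U : Fin 2 → Subgroup G} (P : TQ Z U)
include P

theorem idx' {a u : Subgroup G} (h : Adj Z a u) :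
    (centralizer (NN Z u : Set G)).relIndex (NN Z a) = Nat.card (Z 0) := by
  obtain ⟨i, k, rfl, rfl⟩ := h
  rw [NN_conj, NN_conj, ← conj_centralizer, relIndex_conj]
  exact P.idx i

/-- `N_a = w C_{N_a}(N_u)` -/
theorem dec {a u w : Subgroup G} (h : Adj Z a u) (hw : Adj Z a w) (hwu : ¬ w ≤ centralizer (NN Z u : Set G))
    {n : G} (hn : n ∈ NN Z a) : ∃ x ∈ w, x⁻¹ * n ∈ centralizer (NN Z u : Set G) := by
  let C : Subgroup G := centralizer (NN Z u : Set G)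
  let f : w → NN Z a ⧸ C.subgroupOf (NN Z a) := fun y => (⟨y, hw.le_NN y.2⟩ : NN Z a)
  have hf : Function.Injective f := by
    intro y z hyz
    have h1 : (⟨y, hw.le_NN y.2⟩ : NN Z a)⁻¹ * ⟨z, hw.le_NN z.2⟩ ∈ C.subgroupOf (NN Z a) := QuotientGroup.eq.1 hyz
    have h2 : (y : G)⁻¹ * z ∈ C := h1
    have h3 := P.cen_one h hw hwu (mul_mem (inv_mem y.2) z.2) h2
    exact Subtype.ext (inv_mul_eq_one.1 h3)
  have hc : Nat.card (NN Z a ⧸ C.subgroupOf (NN Z a)) ≤ Nat.card w := by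
    rw [P.card_pt (P.adj_pt hw), ← P.idx' h]
    exact le_rfl
  obtain ⟨y, hy⟩ := (hf.bijective_of_nat_card_le hc).2 (⟨n, hn⟩ : NN Z a)
  have h1 : (⟨y, hw.le_NN y.2⟩ : NN Z a)⁻¹ * ⟨n, hn⟩ ∈ C.subgroupOf (NN Z a) := QuotientGroup.eq.1 hy
  exact ⟨y, y.2, h1⟩

/-- **nonsingularity** -/
theorem nonsing {a u : Subgroup G} (h : Adj Z a u) {n t : G} (hn : n ∈ NN Z a)
    (hnc : n ∉ centralizer (NN Z u : Set G)) (ht : t ∈ NN Z u) (htc : t ∉ centralizer (NN Z a : Set G)) :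
    n * t * n⁻¹ * t⁻¹ ∉ a := by
  intro hα
  have hsym := P.adj_symm h
  obtain ⟨w, hw, hwu⟩ := P.exists_moved h
  obtain ⟨x, hx, hc⟩ := P.dec h hw hwu hn
  have hx1 : x ≠ 1 := by
    rintro rfl
    rw [inv_one, one_mul] at hc
    exact hnc hc
  set c : G := x⁻¹ * n with hcdef
  have hnx : n = x * c := by rw [hcdef]; group
  have hct : t * c = c * t := mem_centralizer_iff.1 hc t ht
  have e1 : n * t * n⁻¹ * t⁻¹ = x * t * x⁻¹ * t⁻¹ := by
    rw [hnx]
    calc x * c * t * (x * c)⁻¹ * t⁻¹ = x * (c * t) * c⁻¹ * x⁻¹ * t⁻¹ := by group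
      _ = x * (t * c) * c⁻¹ * x⁻¹ * t⁻¹ := by rw [hct]
      _ = x * t * x⁻¹ * t⁻¹ := by group
  rw [e1] at hα
  -- `t` normalises `w`
  have h2 : MulAut.conj t • w = w := by
    have h3 : t * x * t⁻¹ ∈ MulAut.conj t • w := by
      rw [mem_conj]
      have : t⁻¹ * (t * x * t⁻¹) * t = x := by group
      rwa [this]
    have h4 : t * x * t⁻¹ ∈ a ⊔ w := by
      have : t * x * t⁻¹ = (x * t * x⁻¹ * t⁻¹)⁻¹ * x := by group
      rw [this]
      exact mul_mem (inv_mem (mem_sup_left hα)) (mem_sup_right hx)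
    rcases P.fus' hw ((P.adj_pt hw).conj t) h3 h4 (fun e => hx1 (conj_eq_one_iff.1 e)) with e | e
    · exfalso
      have h5 : MulAut.conj t • a = a := by
        refine conj_eq_of_mem (centralizer_le_normalizer _ (P.NN_le_cent h ht))
      have h6 : w = a := by
        have := congrArg (fun A => MulAut.conj t⁻¹ • A) (e.trans h5.symm)
        simpa only [inv_conj_conj] using this
      exact P.adj_ne hw h6.symm
    · exact e
  have hwt : ∀ y ∈ w, y * t = t * y := fun y hy => P.cent_of_norm h hw (P.ne_of_moved (P.adj_pt h) hwu) ht h2 hy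
  -- the other side
  obtain ⟨y, hy, hya⟩ := P.exists_moved hsym
  obtain ⟨y', hy', hc'⟩ := P.dec hsym hy hya ht
  have hy1 : y' ≠ 1 := by
    rintro rfl
    rw [inv_one, one_mul] at hc'
    exact htc hc'
  have hxa : x ∈ NN Z a := hw.le_NN hx
  have h3 : x * y' = y' * x := by
    have e2 : x * (y'⁻¹ * t) = y'⁻¹ * t * x := mem_centralizer_iff.1 hc' x hxa
    have e3 : y' = t * (y'⁻¹ * t)⁻¹ := by group
    rw [e3]
    calc x * (t * (y'⁻¹ * t)⁻¹) = (x * t) * (y'⁻¹ * t)⁻¹ := by group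
      _ = (t * x) * (y'⁻¹ * t)⁻¹ := by rw [hwt x hx]
      _ = t * ((y'⁻¹ * t)⁻¹ * (y'⁻¹ * t * x) * (y'⁻¹ * t)⁻¹) := by group
      _ = t * ((y'⁻¹ * t)⁻¹ * (x * (y'⁻¹ * t)) * (y'⁻¹ * t)⁻¹) := by rw [e2]
      _ = t * (y'⁻¹ * t)⁻¹ * x := by group
  have h4 : MulAut.conj x • y = y := by
    refine P.norm_of (P.adj_pt hy) hy' hy1 ?_
    rwa [h3, mul_inv_cancel_right]
  have h5 : ∀ z ∈ y, z * x = x * z := fun z hz =>
    P.cent_of_norm hsym hy (P.ne_of_moved h.pt hya) hxa h4 hz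
  refine hx1 (P.cen_one h hw hwu hx (mem_centralizer_iff.2 fun t' ht' => ?_))
  obtain ⟨z, hz, hc''⟩ := P.dec hsym hy hya ht'
  have e4 : x * (z⁻¹ * t') = z⁻¹ * t' * x := mem_centralizer_iff.1 hc'' x hxa
  have e5 : t' = z * (z⁻¹ * t') := by group
  rw [e5]
  calc z * (z⁻¹ * t') * x = z * (z⁻¹ * t' * x) := by group
    _ = z * (x * (z⁻¹ * t')) := by rw [e4]
    _ = z * x * (z⁻¹ * t') := by group
    _ = x * z * (z⁻¹ * t') := by rw [h5 z hz]
    _ = x * (z * (z⁻¹ * t')) := by group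

/-- `[n, N_u] ≤ a` implies `[n, N_u] = 1`. -/
theorem lift {a u : Subgroup G} (h : Adj Z a u) {n : G} (hn : n ∈ NN Z a)
    (hc : ∀ t ∈ NN Z u, n * t * n⁻¹ * t⁻¹ ∈ a) : n ∈ centralizer (NN Z u : Set G) := by
  by_contra hnc
  obtain ⟨t, ht, htc⟩ := SetLike.not_le_iff_exists.1 (P.not_com (P.adj_symm h))
  exact P.nonsing h hn hnc ht htc (hc t ht)

/-- `t ∈ N_u` centralising an element of `N_a - C(N_u)` modulo `a` centralises `N_a` -/
theorem lift' {a u : Subgroup G} (h : Adj Z a u) {n t : G} (hn : n ∈ NN Z a)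
    (hnc : n ∉ centralizer (NN Z u : Set G)) (ht : t ∈ NN Z u) (hc : n * t * n⁻¹ * t⁻¹ ∈ a) :
    t ∈ centralizer (NN Z a : Set G) := by
  by_contra htc
  exact P.nonsing h hn hnc ht htc hc

/-- **symmetry of perpendicularity** -/
theorem perp_symm {a u w : Subgroup G} (h : Adj Z a u) (hw : Adj Z a w) (hwu : w ≤ centralizer (NN Z u : Set G)) :
    u ≤ centralizer (NN Z w : Set G) := by
  by_contra huw
  -- `N_u` normalises `N_w`; `[N_u, N_w]` centralises `N_a`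
  have hNw : ∀ t ∈ NN Z u, MulAut.conj t • NN Z w = NN Z w := by
    intro t ht
    rw [← NN_conj]
    congr 1
    exact conj_eq_of_mem (centralizer_le_normalizer _ (comm_symm hwu ht))
  -- so `N_u` centralises `N_a` modulo `a`
  apply P.not_com h
  intro n hn
  obtain ⟨x, hx, hc⟩ := P.dec hw h huw hn
  have h1 : x⁻¹ * n ∈ centralizer (NN Z u : Set G) := by
    refine P.lift h (mul_mem (inv_mem (h.le_NN hx)) hn) fun t ht => ?_
    set c : G := x⁻¹ * n with hcd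
    have hcN : c ∈ NN Z a := mul_mem (inv_mem (h.le_NN hx)) hn
    have h2 : c * t * c⁻¹ * t⁻¹ ∈ a ⊔ u := P.com' h hcN ht
    obtain ⟨α, hα, υ, hυ, e⟩ := P.mem_au h h2
    have h3 : c * t * c⁻¹ * t⁻¹ ∈ centralizer (NN Z w : Set G) := by
      have h4 : t * c⁻¹ * t⁻¹ ∈ centralizer (NN Z w : Set G) := by
        have h5 : MulAut.conj t • centralizer (NN Z w : Set G) = centralizer (NN Z w : Set G) := by
          rw [conj_centralizer, hNw t ht]
        rw [← h5, mem_conj]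
        have : t⁻¹ * (t * c⁻¹ * t⁻¹) * t = c⁻¹ := by group
        rw [this]
        exact inv_mem hc
      have e2 : c * t * c⁻¹ * t⁻¹ = c * (t * c⁻¹ * t⁻¹) := by group
      rw [e2]
      exact mul_mem hc h4
    have h6 : α ∈ centralizer (NN Z w : Set G) := comm_symm (P.NN_le_cent hw) hα
    have h7 : υ ∈ centralizer (NN Z w : Set G) := by
      have : υ = α⁻¹ * (c * t * c⁻¹ * t⁻¹) := by rw [e]; group
      rw [this]
      exact mul_mem (inv_mem h6) h3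
    have h8 := P.cen_one hw h huw hυ h7
    rw [e, h8, mul_one]
    exact hα
  have h2 : x ∈ centralizer (NN Z u : Set G) := P.self_le (P.adj_pt h) hx
  have := mul_mem h2 h1
  rwa [mul_inv_cancel_left] at this

/-- **surjectivity** -/
theorem sur {a u : Subgroup G} (h : Adj Z a u) {n v : G} (hn : n ∈ NN Z a)
    (hnc : n ∉ centralizer (NN Z u : Set G)) (hv : v ∈ u) :
    ∃ t ∈ NN Z u, ∃ α ∈ a, t * n * t⁻¹ = n * v * α := by
  classical
  have hsym := P.adj_symm h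
  have hex : ∀ t : NN Z u, ∃ υ : u, ∃ α ∈ a, n * t * n⁻¹ * (t : G)⁻¹ = α * υ := by
    intro t
    obtain ⟨α, hα, υ, hυ, e⟩ := P.mem_au h (P.com' h hn t.2)
    exact ⟨⟨υ, hυ⟩, α, hα, e⟩
  choose f hf using hex
  let C : Subgroup G := centralizer (NN Z a : Set G)
  let g : (NN Z u ⧸ C.subgroupOf (NN Z u)) → u := fun x => f x.out
  have hg : Function.Injective g := by
    intro x y hxy
    have h1 : f x.out = f y.out := hxy
    obtain ⟨α, hα, e1⟩ := hf x.out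
    obtain ⟨β, hβ, e2⟩ := hf y.out
    rw [← h1] at e2
    set υ : G := (f x.out : G) with hυ
    have hυu : υ ∈ u := (f x.out).2
    have hυα : ∀ γ ∈ a, γ * υ = υ * γ := fun γ hγ => P.aN h.pt hγ (h.le_NN hυu)
    have hαt : ∀ γ ∈ a, ∀ t ∈ NN Z u, γ * t = t * γ := fun γ hγ t ht =>
      mem_centralizer_iff.1 (P.NN_le_cent h ht) γ hγ
    have e3 : n * (x.out : G) * n⁻¹ = α * υ * x.out := by rw [← e1]; group
    have e4 : n * (y.out : G) * n⁻¹ = β * υ * y.out := by rw [← e2]; group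
    have hmem : ((x.out : G))⁻¹ * y.out ∈ NN Z u := mul_mem (inv_mem x.out.2) y.out.2
    have e5 : n * ((x.out : G)⁻¹ * y.out) * n⁻¹ * ((x.out : G)⁻¹ * y.out)⁻¹ ∈ a := by
      have e6 : n * ((x.out : G)⁻¹ * y.out) * n⁻¹ = α⁻¹ * β * ((x.out : G)⁻¹ * y.out) := by
        calc n * ((x.out : G)⁻¹ * y.out) * n⁻¹ = (n * (x.out : G) * n⁻¹)⁻¹ * (n * (y.out : G) * n⁻¹) := by group
          _ = (α * υ * x.out)⁻¹ * (β * υ * y.out) := by rw [e3, e4]
          _ = (x.out : G)⁻¹ * υ⁻¹ * (α⁻¹ * β * υ) * y.out := by group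
          _ = (x.out : G)⁻¹ * υ⁻¹ * (υ * (α⁻¹ * β)) * y.out := by
              rw [hυα _ (mul_mem (inv_mem hα) hβ)]
          _ = (x.out : G)⁻¹ * (α⁻¹ * β) * y.out := by group
          _ = α⁻¹ * β * (x.out : G)⁻¹ * y.out := by
              rw [hαt _ (mul_mem (inv_mem hα) hβ) _ (inv_mem x.out.2)]
          _ = α⁻¹ * β * ((x.out : G)⁻¹ * y.out) := by group
      rw [e6, mul_inv_cancel_right]
      exact mul_mem (inv_mem hα) hβ
    have h2 : ((x.out : G))⁻¹ * y.out ∈ C := P.lift' h hn hnc hmem e5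
    have h3 : (x.out)⁻¹ * y.out ∈ C.subgroupOf (NN Z u) := h2
    have h4 : ((x.out : NN Z u) : NN Z u ⧸ C.subgroupOf (NN Z u)) = (y.out : NN Z u) := QuotientGroup.eq.2 h3
    rwa [QuotientGroup.out_eq', QuotientGroup.out_eq'] at h4
  have hc : Nat.card u ≤ Nat.card (NN Z u ⧸ C.subgroupOf (NN Z u)) := by
    rw [P.card_pt (P.adj_pt h), ← P.idx' hsym]
    exact le_rfl
  obtain ⟨x, hx⟩ := (hg.bijective_of_nat_card_le hc).2 (⟨v⁻¹, inv_mem hv⟩ : u)
  obtain ⟨α, hα, e⟩ := hf x.out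
  have hx' : (f x.out : G) = v⁻¹ := congrArg Subtype.val hx
  rw [hx'] at e
  refine ⟨x.out, x.out.2, α⁻¹, inv_mem hα, ?_⟩
  have e1 : (x.out : G) * n * (x.out : G)⁻¹ = (n⁻¹ * (n * x.out * n⁻¹ * (x.out : G)⁻¹))⁻¹ := by group
  have e2 : v * n = n * v := P.abN h.pt (h.le_NN hv) hn
  have e3 : α⁻¹ * n = n * α⁻¹ := P.aN h.pt (inv_mem hα) hn
  have e4 : α⁻¹ * v = v * α⁻¹ := P.aN h.pt (inv_mem hα) (h.le_NN hv)
  rw [e1, e]
  calc (n⁻¹ * (α * v⁻¹))⁻¹ = v * (α⁻¹ * n) := by group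
    _ = v * n * α⁻¹ := by rw [e3]; group
    _ = n * v * α⁻¹ := by rw [e2]

end TQ

end Cfsg.Agent.Omega.OM.TV
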