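import Cfsg.Agent.Omega.OM.TV.TL
import Cfsg.Agent.Omega.NO3S.EThree.TBig

/-!
# Two types of points: the index is `q`: `1 ≠ [N_0, N_1] ≤ Z_0Z_1` implies `|N_i : C_{N_i}(N_{i+1})| = |Z_0|`

`Con` : `N_G(a)` is transitive on the neighbours of `a`. `TQ0.bd`, `TQ0.ln` : the hypotheses of `Big.Bd.false_of_line` for `N_a / a`; `TQ0.idx_eq`; `TQ0.toTQ`.
-/

set_option autoImplicit false
set_option linter.unusedSectionVars false

namespace Cfsg.Agent.Omega.OM.TV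

open Subgroup Cfsg Cfsg.Agent.ZN Cfsg.Agent.Omega.MinPar
open Cfsg.Agent.Omega.NoFF.Basic (conj_conj mem_conj conj_le_iff conj_le_centralizer comm_symm comm_mono)
open Cfsg.Agent.Omega.NOThreeL.Pair (conj_eq_of_mem)
open Cfsg.Agent.Omega.OM.PG (HH QQ HH_conj QQ_conj conj_inv_conj inv_conj_conj)
open Cfsg.Agent.Omega.NO3S.EThree (conj_sup' conj_centralizer relIndex_conj mem_sup_of_comm norm_conj conj_norm
  conj_normalizer mem_conj_self Qt exists_qt)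
open Cfsg.Agent.Omega.NO3S.EThree.PtGeo
open scoped Pointwise

universe u

variable {G : Type u} [Group G]

/-- `N_G(a)` is transitive on the neighbours of `a` -/
def Con (Z : Fin 2 → Subgroup G) : Prop := ∀ a u u' : Subgroup G, Adj Z a u → Adj Z a u' →
  ∃ g : G, MulAut.conj g • a = a ∧ MulAut.conj g • u = u'

namespace TQ0

variable [Finite G] {Z U : Fin 2 → Subgroup G} (P : TQ0 Z U)
include P

variable {a : Subgroup G} {M : Type u} [AddCommGroup M] {π : G → M} (q : Qt (NN Z a) a M π)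
include q

theorem conj_mem_NN {w : Subgroup G} (hw : Adj Z a w) {t : G} (ht : t ∈ NN Z w) {n : G} (hn : n ∈ NN Z a) :
    t * n * t⁻¹ ∈ NN Z a := by
  rw [← P.conj_NN hw ht]
  exact mem_conj_self hn

theorem eta_ex {w : Subgroup G} (hw : Adj Z a w) {t : G} (ht : t ∈ NN Z w) :
    ∃ η : M →+ M, ∀ x ∈ NN Z a, η (π x) = π (t * x * t⁻¹) - π x := by
  obtain ⟨φ, hφ⟩ := P.act_ex q (P.conj_pt hw ht)
  refine ⟨φ.toAddMonoidHom - AddMonoidHom.id M, fun x hx => ?_⟩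
  rw [AddMonoidHom.sub_apply, ← hφ x hx]
  rfl

theorem eta_im {w : Subgroup G} (hw : Adj Z a w) {t : G} (ht : t ∈ NN Z w) {n : G} (hn : n ∈ NN Z a) :
    π (t * n * t⁻¹) - π n ∈ q.im w := by
  obtain ⟨α, hα, υ, hυ, e⟩ := P.mem_au hw (P.com' hw hn ht)
  have hυN := hw.le_NN hυ
  have htn := P.conj_mem_NN q hw ht hn
  have e1 : (t * n * t⁻¹)⁻¹ * (n * υ⁻¹) ∈ a := by
    have e2 : (t * n * t⁻¹)⁻¹ = n⁻¹ * (n * t * n⁻¹ * t⁻¹) := by group
    have e3 : υ * n = n * υ := P.abN hw.pt hυN hn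
    have e4 : n⁻¹ * α = α * n⁻¹ := (P.aN hw.pt hα (inv_mem hn)).symm
    have e5 : (t * n * t⁻¹)⁻¹ * (n * υ⁻¹) = α := by
      rw [e2, e]
      calc n⁻¹ * (α * υ) * (n * υ⁻¹) = (n⁻¹ * α) * (υ * n) * υ⁻¹ := by group
        _ = (α * n⁻¹) * (n * υ) * υ⁻¹ := by rw [e3, e4]
        _ = α := by group
    rw [e5]
    exact hα
  have e6 : π (t * n * t⁻¹) = π (n * υ⁻¹) := (q.eq_iff htn (mul_mem hn (inv_mem hυN))).2 e1
  rw [e6, q.mul n hn _ (inv_mem hυN), add_sub_cancel_left]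
  exact q.π_mem_im (inv_mem hυ) (inv_mem hυN)

/-- `t ∈ N_w` fixing a nonzero vector of the point `r` centralises `r` -/
theorem eta_one {w r : Subgroup G} (hw : Adj Z a w) {t : G} (ht : t ∈ NN Z w) (hr : Adj Z a r) {y : G} (hy : y ∈ r)
    (hy1 : y ≠ 1) (h : π (t * y * t⁻¹) = π y) : ∀ z ∈ r, z * t = t * z := by
  intro z hz
  by_cases hrw : r = w
  · subst hrw
    exact (mem_centralizer_iff.1 (P.self_le (P.adj_pt hr) hz) t ht).symm
  · refine P.cent_of_norm hw hr hrw ht ?_ hz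
    refine P.im_inj q (P.adj_conj_of q hr (P.conj_pt hw ht)) hr (mem_conj_self hy) (fun e => hy1 (conj_eq_one_iff.1 e)) ?_
    rw [h]
    exact q.π_mem_im hy (hr.le_NN hy)

/-- `N_w - 1` on `N_a / a` -/
def Te : AddSubgroup M → AddSubgroup (M →+ M) := fun p =>
  { carrier := {η | ∀ w, Adj Z a w → p = q.im w → ∃ t ∈ NN Z w, ∀ x ∈ NN Z a, η (π x) = π (t * x * t⁻¹) - π x}
    zero_mem' := fun w hw hp => ⟨1, one_mem _, fun x hx => by
      rw [one_mul, inv_one, mul_one, sub_self]; rfl⟩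
    add_mem' := by
      intro η η' hη hη' w hw hp
      obtain ⟨t, ht, h1⟩ := hη w hw hp
      obtain ⟨t', ht', h2⟩ := hη' w hw hp
      refine ⟨t * t', mul_mem ht ht', fun x hx => ?_⟩
      have hx' := P.conj_mem_NN q hw ht' hx
      have h3 := P.eta_im q hw ht' hx
      obtain ⟨υ, hυ, hυN, e⟩ := q.mem_im.1 h3
      have h4 : η (π υ) = 0 := by
        rw [h1 υ hυN]
        have : t * υ * t⁻¹ = υ := by
          rw [mem_centralizer_iff.1 (P.self_le (P.adj_pt hw) hυ) t ht, mul_inv_cancel_right]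
        rw [this, sub_self]
      have h5 : η (π (t' * x * t'⁻¹)) = η (π x) := by
        have : π (t' * x * t'⁻¹) = π υ + π x := by rw [e]; abel
        rw [this, map_add, h4, zero_add]
      have h6 := h1 _ hx'
      have e7 : t * t' * x * (t * t')⁻¹ = t * (t' * x * t'⁻¹) * t⁻¹ := by group
      rw [AddMonoidHom.add_apply, h2 x hx, e7, ← h5, h6]
      abel
    neg_mem' := by
      intro η hη w hw hp
      obtain ⟨t, ht, h1⟩ := hη w hw hp
      refine ⟨t⁻¹, inv_mem ht, fun x hx => ?_⟩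
      have hx' := P.conj_mem_NN q hw (inv_mem ht) hx
      have h3 := P.eta_im q hw (inv_mem ht) hx
      obtain ⟨υ, hυ, hυN, e⟩ := q.mem_im.1 h3
      have h4 : η (π υ) = 0 := by
        rw [h1 υ hυN]
        have : t * υ * t⁻¹ = υ := by
          rw [mem_centralizer_iff.1 (P.self_le (P.adj_pt hw) hυ) t ht, mul_inv_cancel_right]
        rw [this, sub_self]
      have h5 : η (π (t⁻¹ * x * t⁻¹⁻¹)) = η (π x) := by
        have : π (t⁻¹ * x * t⁻¹⁻¹) = π υ + π x := by rw [e]; abel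
        rw [this, map_add, h4, zero_add]
      have h6 := h1 _ hx'
      have e7 : t * (t⁻¹ * x * t⁻¹⁻¹) * t⁻¹ = x := by group
      rw [e7, h5] at h6
      rw [AddMonoidHom.neg_apply, h6]
      abel }

theorem mem_Te {w : Subgroup G} (hw : Adj Z a w) {η : M →+ M} :
    η ∈ Te P q (q.im w) ↔ ∃ t ∈ NN Z w, ∀ x ∈ NN Z a, η (π x) = π (t * x * t⁻¹) - π x := by
  constructor
  · intro h
    exact h w hw rfl
  · rintro ⟨t, ht, h⟩ w' hw' e
    have := P.im_eq q hw hw' e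
    subst this
    exact ⟨t, ht, h⟩

/-- `η` kills the point `r` iff `t` centralises `r` -/
theorem kill_iff {w r : Subgroup G} (hw : Adj Z a w) (hr : Adj Z a r) {t : G} (ht : t ∈ NN Z w) {η : M →+ M}
    (h : ∀ x ∈ NN Z a, η (π x) = π (t * x * t⁻¹) - π x) {b : M} (hb : b ∈ q.im r) (hb0 : b ≠ 0) :
    η b = 0 ↔ ∀ z ∈ r, z * t = t * z := by
  obtain ⟨y, hy, hyN, rfl⟩ := q.mem_im.1 hb
  have hy1 : y ≠ 1 := by
    rintro rfl
    exact hb0 q.one
  constructor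
  · intro h0
    rw [h y hyN, sub_eq_zero] at h0
    exact P.eta_one q hw ht hr hy hy1 h0
  · intro hc
    rw [h y hyN, ← hc y hy, mul_inv_cancel_right, sub_self]

theorem kill_of {r : Subgroup G} {t : G} {η : M →+ M}
    (h : ∀ x ∈ NN Z a, η (π x) = π (t * x * t⁻¹) - π x) (hc : ∀ z ∈ r, z * t = t * z) : ∀ v ∈ q.im r, η v = 0 := by
  rintro _ ⟨y, hy, hyN, rfl⟩
  rw [h y hyN, ← hc y hy, mul_inv_cancel_right, sub_self]

theorem ne_zero_ex {r : Subgroup G} (hr : Adj Z a r) : ∃ v ∈ q.im r, v ≠ 0 := by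
  obtain ⟨x, hx, hx1⟩ := P.exists_ne (P.adj_pt hr)
  exact ⟨π x, q.π_mem_im hx (hr.le_NN hx), P.π_ne q hr hx hx1⟩

theorem adj_iff {w r : Subgroup G} (hw : Adj Z a w) (hr : Adj Z a r) :
    Cfsg.Agent.Omega.NO3S.EThree.Big.Adj (Te P q) (q.im w) (q.im r) ↔ ¬ r ≤ centralizer (NN Z w : Set G) := by
  constructor
  · rintro ⟨η, hη, v, hv, h0⟩ hle
    obtain ⟨t, ht, h⟩ := (P.mem_Te q hw).1 hη
    exact h0 (P.kill_of q h (fun z hz => (mem_centralizer_iff.1 (hle hz) t ht).symm) v hv)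
  · intro hle
    obtain ⟨z, hz, hzc⟩ := SetLike.not_le_iff_exists.1 hle
    rw [mem_centralizer_iff] at hzc
    push Not at hzc
    obtain ⟨t, ht, hne⟩ := hzc
    obtain ⟨η, hη⟩ := P.eta_ex q hw ht
    obtain ⟨v, hv, hv0⟩ := P.ne_zero_ex q hr
    refine ⟨η, (P.mem_Te q hw).2 ⟨t, ht, hη⟩, v, hv, fun h0 => hne ?_⟩
    exact ((P.kill_iff q hw hr ht hη hv hv0).1 h0 z hz).symm

theorem card_im {w : Subgroup G} (hw : Adj Z a w) : Nat.card (q.im w) = Nat.card (Z 0) := by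
  rw [← P.card_pt (P.adj_pt hw)]
  let f : w → q.im w := fun x => ⟨π x, q.π_mem_im x.2 (hw.le_NN x.2)⟩
  have hf : Function.Bijective f := by
    constructor
    · intro x y hxy
      have h1 : π x = π y := congrArg Subtype.val hxy
      rw [q.eq_iff (hw.le_NN x.2) (hw.le_NN y.2)] at h1
      have h2 := P.pt_disj q hw (mul_mem (inv_mem x.2) y.2) h1
      exact Subtype.ext (inv_mul_eq_one.1 h2)
    · rintro ⟨_, x, hx, hxN, rfl⟩
      exact ⟨⟨x, hx⟩, rfl⟩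
  exact (Nat.card_congr (Equiv.ofBijective f hf)).symm

theorem finM : Finite M := by
  apply Finite.of_surjective (fun x : NN Z a => π x)
  intro m
  obtain ⟨x, hx, e⟩ := q.surj m
  exact ⟨⟨x, hx⟩, e⟩

/-- surjectivity of the evaluations -/
theorem eta_sur {w r : Subgroup G} (hw : Adj Z a w) (hr : Adj Z a r) (hwr : ¬ r ≤ centralizer (NN Z w : Set G))
    {b : M} (hb : b ∈ q.im r) (hb0 : b ≠ 0) {v : M} (hv : v ∈ q.im w) : ∃ η ∈ Te P q (q.im w), η b = v := by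
  have hsym := P.adj_symm hw
  -- a point of `N_w`
  obtain ⟨z, hz, hrz⟩ : ∃ z, Adj Z w z ∧ ¬ r ≤ centralizer (z : Set G) := by
    by_contra hcon
    push Not at hcon
    apply hwr
    rw [le_centralizer_iff]
    exact sSup_le fun z hz => le_centralizer_iff.1 (hcon z hz)
  have hza : z ≠ a := by
    rintro rfl
    exact hrz (hr.le_NN.trans (P.self' hr.pt))
  obtain ⟨x₀, hx₀, hx₀N, rfl⟩ := q.mem_im.1 hb
  have hx₀1 : x₀ ≠ 1 := by
    rintro rfl
    exact hb0 q.one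
  have hzw : ∀ t ∈ z, t ∈ NN Z w := fun t ht => hz.le_NN ht
  let f : z → q.im w := fun t => ⟨π ((t : G) * x₀ * (t : G)⁻¹) - π x₀, P.eta_im q hw (hzw _ t.2) hx₀N⟩
  have hf : Function.Injective f := by
    intro s t hst
    have h1 : π ((s : G) * x₀ * (s : G)⁻¹) - π x₀ = π ((t : G) * x₀ * (t : G)⁻¹) - π x₀ := congrArg Subtype.val hst
    have h2 : π ((s : G) * x₀ * (s : G)⁻¹) = π ((t : G) * x₀ * (t : G)⁻¹) := sub_left_injective h1
    have hg : (t : G)⁻¹ * s ∈ z := mul_mem (inv_mem t.2) s.2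
    by_contra hne
    have hg1 : (t : G)⁻¹ * s ≠ 1 := fun e => hne (Subtype.ext (inv_mul_eq_one.1 e).symm)
    have h3 : π (((t : G)⁻¹ * s) * x₀ * ((t : G)⁻¹ * s)⁻¹) = π x₀ := by
      obtain ⟨φ, hφ⟩ := P.act_ex q (P.conj_pt hw (inv_mem (hzw _ t.2)))
      have h4 := congrArg φ h2
      rw [hφ _ (P.conj_mem_NN q hw (hzw _ s.2) hx₀N), hφ _ (P.conj_mem_NN q hw (hzw _ t.2) hx₀N)] at h4
      have e1 : (t : G)⁻¹ * (s * x₀ * (s : G)⁻¹) * (t : G)⁻¹⁻¹ = (t : G)⁻¹ * s * x₀ * ((t : G)⁻¹ * s)⁻¹ := by group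
      have e2 : (t : G)⁻¹ * (t * x₀ * (t : G)⁻¹) * (t : G)⁻¹⁻¹ = x₀ := by group
      rwa [e1, e2] at h4
    have h4 := P.eta_one q hw (hzw _ hg) hr hx₀ hx₀1 h3
    apply hrz
    intro x hx
    refine mem_centralizer_iff.2 fun y hy => ?_
    refine P.cent_of_norm hsym hz hza (hr.le_NN hx) ?_ hy
    refine P.norm_of (P.adj_pt hz) hg hg1 ?_
    rw [h4 x hx, mul_inv_cancel_right]
    exact hg
  have := finM P q
  have hc : Nat.card (q.im w) ≤ Nat.card z := by rw [P.card_im q hw, P.card_pt (P.adj_pt hz)]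
  obtain ⟨t, ht⟩ := (hf.bijective_of_nat_card_le hc).2 ⟨v, hv⟩
  obtain ⟨η, hη⟩ := P.eta_ex q hw (hzw _ t.2)
  exact ⟨η, (P.mem_Te q hw).2 ⟨t, hzw _ t.2, hη⟩, (hη x₀ hx₀N).trans (congrArg Subtype.val ht)⟩

theorem inv_eta {w : Subgroup G} (hw : Adj Z a w) {t : G} (ht : t ∈ NN Z w) {η : M →+ M}
    (h : ∀ x ∈ NN Z a, η (π x) = π (t * x * t⁻¹) - π x) (h2 : ∀ m, η (η m) = 0) {x : G} (hx : x ∈ NN Z a) :
    π (t⁻¹ * x * t) = π x - η (π x) := by
  have hx' : t⁻¹ * x * t ∈ NN Z a := by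
    have := P.conj_mem_NN q hw (inv_mem ht) hx
    rwa [inv_inv] at this
  have h1 := h _ hx'
  have e : t * (t⁻¹ * x * t) * t⁻¹ = x := by group
  rw [e] at h1
  have h3 : π (t⁻¹ * x * t) = π x - η (π (t⁻¹ * x * t)) := by rw [h1]; abel
  have h4 : η (π (t⁻¹ * x * t)) = η (π x) := by
    conv_lhs => rw [h3]
    rw [map_sub, h2, sub_zero]
  rw [h4] at h3
  exact h3

theorem eta_cl {w r : Subgroup G} (hw : Adj Z a w) (hr : Adj Z a r) {φ ψ : M →+ M} (hφ : φ ∈ Te P q (q.im w))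
    (hψ : ψ ∈ Te P q (q.im r)) (hk : ∀ v ∈ q.im w, ψ v = 0) : φ.comp ψ ∈ Te P q (q.im w) := by
  obtain ⟨s, hs, h1⟩ := (P.mem_Te q hw).1 hφ
  obtain ⟨t, ht, h2⟩ := (P.mem_Te q hr).1 hψ
  have imφ : ∀ m, φ m ∈ q.im w := by
    intro m
    obtain ⟨n, hn, rfl⟩ := q.surj m
    rw [h1 n hn]
    exact P.eta_im q hw hs hn
  have imψ : ∀ m, ψ m ∈ q.im r := by
    intro m
    obtain ⟨n, hn, rfl⟩ := q.surj m
    rw [h2 n hn]
    exact P.eta_im q hr ht hn
  have kφ : ∀ v ∈ q.im w, φ v = 0 := P.kill_of q h1 fun z hz =>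
    (mem_centralizer_iff.1 (P.self_le (P.adj_pt hw) hz) s hs).symm
  have kψ : ∀ v ∈ q.im r, ψ v = 0 := P.kill_of q h2 fun z hz =>
    (mem_centralizer_iff.1 (P.self_le (P.adj_pt hr) hz) t ht).symm
  obtain ⟨v, hv, hv0⟩ := P.ne_zero_ex q hw
  have htw := (P.kill_iff q hr hw ht h2 hv hv0).1 (hk v hv)
  -- `t` normalises `N_w`
  have htN : MulAut.conj t • NN Z w = NN Z w := by
    rw [← NN_conj]
    congr 1
    exact conj_eq_of_mem (centralizer_le_normalizer _ (mem_centralizer_iff.2 fun z hz => htw z hz))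
  refine (P.mem_Te q hw).2 ⟨s * (t * s⁻¹ * t⁻¹), mul_mem hs ?_, fun n hn => ?_⟩
  · rw [← htN]
    exact mem_conj_self (inv_mem hs)
  · have y1 : t⁻¹ * n * t ∈ NN Z a := by
      have := P.conj_mem_NN q hr (inv_mem ht) hn
      rwa [inv_inv] at this
    have y2 : s⁻¹ * (t⁻¹ * n * t) * s ∈ NN Z a := by
      have := P.conj_mem_NN q hw (inv_mem hs) y1
      rwa [inv_inv] at this
    have y3 : t * (s⁻¹ * (t⁻¹ * n * t) * s) * t⁻¹ ∈ NN Z a := P.conj_mem_NN q hr ht y2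
    have e1 := P.inv_eta q hr ht h2 (fun m => kψ _ (imψ m)) hn
    have e2 := P.inv_eta q hw hs h1 (fun m => kφ _ (imφ m)) y1
    have e3 : π (t * (s⁻¹ * (t⁻¹ * n * t) * s) * t⁻¹) = π (s⁻¹ * (t⁻¹ * n * t) * s) +
        ψ (π (s⁻¹ * (t⁻¹ * n * t) * s)) := by rw [h2 _ y2]; abel
    have e4 : π (s * (t * (s⁻¹ * (t⁻¹ * n * t) * s) * t⁻¹) * s⁻¹) = π (t * (s⁻¹ * (t⁻¹ * n * t) * s) * t⁻¹) +
        φ (π (t * (s⁻¹ * (t⁻¹ * n * t) * s) * t⁻¹)) := by rw [h1 _ y3]; abel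
    have e5 : s * (t * s⁻¹ * t⁻¹) * n * (s * (t * s⁻¹ * t⁻¹))⁻¹ =
        s * (t * (s⁻¹ * (t⁻¹ * n * t) * s) * t⁻¹) * s⁻¹ := by group
    have k1 : ∀ m, ψ (ψ m) = 0 := fun m => kψ _ (imψ m)
    have k2 : ∀ m, φ (φ m) = 0 := fun m => kφ _ (imφ m)
    have k3 : ∀ m, ψ (φ m) = 0 := fun m => hk _ (imφ m)
    rw [e5, e4, e3, e2, e1]
    show φ (ψ (π n)) = _
    simp only [map_sub, map_add, k1, k2, k3, map_zero]
    abel

theorem eta_card (hC : Con Z) {w w' : Subgroup G} (hw : Adj Z a w) (hw' : Adj Z a w') :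
    Nat.card (Te P q (q.im w)) ≤ Nat.card (Te P q (q.im w')) := by
  obtain ⟨g, hga, hgw⟩ := hC a w w' hw hw'
  obtain ⟨α, hα⟩ := P.act_ex q hga
  have hN : ∀ x ∈ NN Z a, g⁻¹ * x * g ∈ NN Z a := by
    intro x hx
    have h1 : MulAut.conj g • NN Z a = NN Z a := by rw [← NN_conj, hga]
    rw [← h1, mem_conj] at hx
    exact hx
  have hN' : ∀ x ∈ NN Z a, g * x * g⁻¹ ∈ NN Z a := by
    intro x hx
    have h1 : MulAut.conj g • NN Z a = NN Z a := by rw [← NN_conj, hga]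
    rw [← h1]
    exact mem_conj_self hx
  have hα' : ∀ x ∈ NN Z a, α.symm (π x) = π (g⁻¹ * x * g) := by
    intro x hx
    rw [AddEquiv.symm_apply_eq, hα _ (hN x hx)]
    congr 1
    group
  let F : (M →+ M) → (M →+ M) := fun η => (α.toAddMonoidHom.comp η).comp α.symm.toAddMonoidHom
  have hF : ∀ η ∈ Te P q (q.im w), F η ∈ Te P q (q.im w') := by
    intro η hη
    obtain ⟨t, ht, h⟩ := (P.mem_Te q hw).1 hη
    refine (P.mem_Te q hw').2 ⟨g * t * g⁻¹, ?_, fun x hx => ?_⟩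
    · rw [← hgw, NN_conj]
      exact mem_conj_self ht
    · show α (η (α.symm (π x))) = _
      rw [hα' x hx, h _ (hN x hx), map_sub, hα _ (P.conj_mem_NN q hw ht (hN x hx)), hα _ (hN x hx)]
      congr 2 <;> group
  have hinj : Function.Injective F := by
    intro η η' e
    ext m
    have h1 : F η (α m) = F η' (α m) := by rw [e]
    have h2 : α (η (α.symm (α m))) = α (η' (α.symm (α m))) := h1
    rw [AddEquiv.symm_apply_apply] at h2
    exact α.injective h2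
  have := finM P q
  have : Finite (M →+ M) := Cfsg.Agent.Omega.NO3S.EThree.Big.Bd.finite_hom
  refine Nat.card_le_card_of_injective (fun η : Te P q (q.im w) => (⟨F η.1, hF η.1 η.2⟩ : Te P q (q.im w'))) ?_
  intro η η' e
  exact Subtype.ext (hinj (congrArg Subtype.val e))

theorem eq_top_of {K : AddSubgroup M} (h : ∀ w, Adj Z a w → q.im w ≤ K) (m : M) : m ∈ K := by
  obtain ⟨n, hn, rfl⟩ := q.surj m
  have h1 : NN Z a ≤ q.pre K := by
    refine sSup_le fun u hu x hx => ⟨hu.le_NN hx, ?_⟩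
    exact h u hu (q.π_mem_im hx (hu.le_NN hx))
  exact (h1 hn).2

/-- The data of `TBig.lean`. -/
theorem bd (hC : Con Z) : Cfsg.Agent.Omega.NO3S.EThree.Big.Bd (PPa q) (Te P q) where
  ne := by
    rintro _ ⟨w, hw, rfl⟩
    exact P.ne_zero_ex q hw
  ti := by
    rintro _ ⟨w, hw, rfl⟩ _ ⟨w', hw', rfl⟩ m ⟨x, hx, hxN, rfl⟩ h h0
    have hx1 : x ≠ 1 := by
      rintro rfl
      exact h0 q.one
    rw [P.im_inj q hw hw' hx hx1 h]
  im := by
    rintro _ ⟨w, hw, rfl⟩ η hη m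
    obtain ⟨t, ht, h1⟩ := (P.mem_Te q hw).1 hη
    obtain ⟨n, hn, rfl⟩ := q.surj m
    rw [h1 n hn]
    exact P.eta_im q hw ht hn
  ker := by
    rintro _ ⟨w, hw, rfl⟩ η hη
    obtain ⟨t, ht, h1⟩ := (P.mem_Te q hw).1 hη
    exact P.kill_of q h1 fun z hz =>
      (mem_centralizer_iff.1 (P.self_le (P.adj_pt hw) hz) t ht).symm
  one := by
    rintro _ ⟨w, hw, rfl⟩ _ ⟨r, hr, rfl⟩ η hη b hb hb0 h0
    obtain ⟨t, ht, h1⟩ := (P.mem_Te q hw).1 hη
    exact P.kill_of q h1 ((P.kill_iff q hw hr ht h1 hb hb0).1 h0)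
  cl := by
    rintro _ ⟨w, hw, rfl⟩ _ ⟨r, hr, rfl⟩ φ hφ ψ hψ hk
    exact P.eta_cl q hw hr hφ hψ hk
  sur := by
    rintro _ ⟨w, hw, rfl⟩ _ ⟨r, hr, rfl⟩ h b hb hb0 v hv
    exact P.eta_sur q hw hr ((P.adj_iff q hw hr).1 h) hb hb0 hv
  cardP := by
    rintro _ ⟨w, hw, rfl⟩ _ ⟨r, hr, rfl⟩
    rw [P.card_im q hw, P.card_im q hr]
  cardT := by
    rintro _ ⟨w, hw, rfl⟩ _ ⟨r, hr, rfl⟩
    exact le_antisymm (P.eta_card q hC hw hr) (P.eta_card q hC hr hw)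
  span := by
    intro η h
    ext m
    exact P.eq_top_of q (K := η.ker) (fun w hw v hv => h _ ⟨w, hw, rfl⟩ v hv) m
  nbr := by
    rintro _ ⟨w, hw, rfl⟩
    obtain ⟨r, hr, h⟩ := P.exists_moved hw
    exact ⟨q.im r, ⟨r, hr, rfl⟩, (P.adj_iff q hw hr).2 h⟩

theorem le_line_of {i : Fin 2} {k : G} (hk : a = MulAut.conj k • Z i) {w : Subgroup G} (hw : Adj Z a w)
    (h : q.im w ≤ q.im (MulAut.conj k • U (i + 1))) : w ≤ MulAut.conj k • U (i + 1) := by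
  subst hk
  obtain ⟨x, hx, hx1⟩ := P.exists_ne (P.adj_pt hw)
  obtain ⟨l, hl, hlN, e⟩ := q.mem_im.1 (h (q.π_mem_im hx (hw.le_NN hx)))
  have hl1 : l ≠ 1 := by
    rintro rfl
    rw [q.one] at e
    exact P.π_ne q hw hx hx1 e.symm
  obtain ⟨w', hw', hle, hlw⟩ := P.pts1 hl hl1
  have haw' := P.adj_of_le hw' hle
  have : w = w' := P.im_inj q hw haw' hx hx1 (by rw [← e]; exact q.π_mem_im hlw (haw'.le_NN hlw))
  rwa [this]

/-- the line -/
theorem ln {i : Fin 2} {k : G} (hk : a = MulAut.conj k • Z i) :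
    Cfsg.Agent.Omega.NO3S.EThree.Big.Ln (PPa q) (Te P q) (q.im (MulAut.conj k • U (i + 1))) where
  cov := by
    rintro _ ⟨x, hx, hxN, rfl⟩ h0
    have hx1 : x ≠ 1 := by
      rintro rfl
      exact h0 q.one
    obtain ⟨w, hw, hle, hxw⟩ := P.pts1 hx hx1
    subst hk
    exact ⟨q.im w, ⟨w, P.adj_of_le hw hle, rfl⟩, q.im_mono hle, q.π_mem_im hxw hxN⟩
  perp := by
    rintro _ ⟨w, hw, rfl⟩ hwV _ ⟨r, hr, rfl⟩ hrV
    have h1 := P.le_line_of q hk hw hwV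
    have h2 := P.le_line_of q hk hr hrV
    rw [P.adj_iff q hw hr, not_not]
    subst hk
    obtain ⟨g, g1, -, g3, -⟩ := P.tr1 (P.adj_pt hw) h1
    have h4 := P.line_le_cent i (g * k)
    rw [← conj_conj, ← conj_conj, g1, g3] at h4
    exact h2.trans h4
  gen := by
    rintro _ ⟨w, hw, rfl⟩ hwV _ ⟨r, hr, rfl⟩ hrV hne
    have h1 := P.le_line_of q hk hw hwV
    have h2 := P.le_line_of q hk hr hrV
    have hne' : w ≠ r := by
      rintro rfl
      exact hne rfl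
    rw [← P.line_eq (P.adj_pt hw) (P.adj_pt hr) h1 h2 hne']
    refine (q.im_sup hw.le_NN hr.le_NN fun g hg => mem_sup_of_comm (fun z hz => ?_) hg).le
    exact mem_centralizer_iff.2 fun x hx => P.abN hw.pt (hw.le_NN hx) (hr.le_NN hz)
  two := by
    rintro _ ⟨w, hw, rfl⟩ hwV
    obtain ⟨y, hy, hle, hne⟩ := P.exists_other i k (P.adj_pt hw)
    subst hk
    have hay := P.adj_of_le hy hle
    exact ⟨q.im y, ⟨y, hay, rfl⟩, q.im_mono hle, fun e => hne (P.im_eq q hay hw e)⟩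
  ex := by
    subst hk
    exact ⟨q.im (MulAut.conj k • Z (i + 1)), ⟨_, ⟨i, k, rfl, rfl⟩, rfl⟩, q.im_mono (P.pt_le_line i k)⟩

/-- `|T_p| ≤ q` -/
theorem card_Te_le (hC : Con Z) {w : Subgroup G} (hw : Adj Z a w) : Nat.card (Te P q (q.im w)) ≤ Nat.card (Z 0) := by
  have := finM P q
  obtain ⟨i, k, hk, -⟩ := id hw
  by_contra hcon
  push Not at hcon
  refine (P.bd q hC).false_of_line ?_ (P.ln q hk)
  rintro _ ⟨r, hr, rfl⟩
  rw [P.card_im q hr, (P.bd q hC).cardT _ ⟨r, hr, rfl⟩ _ ⟨w, hw, rfl⟩]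
  exact hcon

/-- `|N_w : C_{N_w}(N_a)| ≤ |T_w|` -/
theorem relIndex_le {w : Subgroup G} (hw : Adj Z a w) :
    (centralizer (NN Z a : Set G)).relIndex (NN Z w) ≤ Nat.card (Te P q (q.im w)) := by
  have := finM P q
  have : Finite (M →+ M) := Cfsg.Agent.Omega.NO3S.EThree.Big.Bd.finite_hom
  let C : Subgroup G := centralizer (NN Z a : Set G)
  choose η hη using fun t : NN Z w => P.eta_ex q hw t.2
  let f : (NN Z w ⧸ C.subgroupOf (NN Z w)) → Te P q (q.im w) := fun x =>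
    ⟨η x.out, (P.mem_Te q hw).2 ⟨x.out, x.out.2, hη x.out⟩⟩
  refine Nat.card_le_card_of_injective f ?_
  intro x y hxy
  have h1 : η x.out = η y.out := congrArg Subtype.val hxy
  set s : G := (x.out : G) with hs
  set t : G := (y.out : G) with ht
  have hsN : s ∈ NN Z w := x.out.2
  have htN : t ∈ NN Z w := y.out.2
  have hst : s⁻¹ * t ∈ NN Z w := mul_mem (inv_mem hsN) htN
  have h2 : s⁻¹ * t ∈ C := by
    have key : NN Z a ≤ centralizer ({s⁻¹ * t} : Set G) := by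
      refine sSup_le fun r hr => ?_
      obtain ⟨y₀, hy₀, hy₀1⟩ := P.exists_ne (P.adj_pt hr)
      have hy₀N := hr.le_NN hy₀
      have h3 : π (s * y₀ * s⁻¹) = π (t * y₀ * t⁻¹) := by
        have h4 := hη x.out y₀ hy₀N
        rw [h1, hη y.out y₀ hy₀N] at h4
        exact (sub_left_injective h4).symm
      have h5 : π ((s⁻¹ * t) * y₀ * (s⁻¹ * t)⁻¹) = π y₀ := by
        obtain ⟨φ, hφ⟩ := P.act_ex q (P.conj_pt hw (inv_mem hsN))
        have h6 := congrArg φ h3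
        rw [hφ _ (P.conj_mem_NN q hw hsN hy₀N), hφ _ (P.conj_mem_NN q hw htN hy₀N)] at h6
        have e1 : s⁻¹ * (s * y₀ * s⁻¹) * s⁻¹⁻¹ = y₀ := by group
        have e2 : s⁻¹ * (t * y₀ * t⁻¹) * s⁻¹⁻¹ = s⁻¹ * t * y₀ * (s⁻¹ * t)⁻¹ := by group
        rw [e1, e2] at h6
        exact h6.symm
      have h6 := P.eta_one q hw hst hr hy₀ hy₀1 h5
      intro z hz
      rw [mem_centralizer_singleton_iff]
      exact h6 z hz
    refine mem_centralizer_iff.2 fun n hn => ?_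
    exact (mem_centralizer_singleton_iff.1 (key hn))
  have h3 : (x.out)⁻¹ * y.out ∈ C.subgroupOf (NN Z w) := h2
  have h4 : ((x.out : NN Z w) : NN Z w ⧸ C.subgroupOf (NN Z w)) = (y.out : NN Z w) := QuotientGroup.eq.2 h3
  rwa [QuotientGroup.out_eq', QuotientGroup.out_eq'] at h4

omit q in
/-- **The index is `q`.** -/
theorem idx_eq (hC : Con Z) (i : Fin 2) :
    (centralizer (NN Z (Z (i + 1)) : Set G)).relIndex (NN Z (Z i)) = Nat.card (Z 0) := by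
  have h01 : Adj Z (Z i) (Z (i + 1)) := adj_Z i
  have h10 := P.adj_symm h01
  apply le_antisymm
  · obtain ⟨M, _, π, q⟩ := exists_qt (NN Z (Z (i + 1))) (Z (i + 1)) fun _ hx _ hy => P.abN h10.pt hx hy
    exact (P.relIndex_le q h10).trans (P.card_Te_le q hC h10)
  · obtain ⟨w, hw, hwu⟩ := P.exists_moved h01
    rw [← P.card_pt (P.adj_pt hw)]
    let C : Subgroup G := centralizer (NN Z (Z (i + 1)) : Set G)
    refine Nat.card_le_card_of_injective
      (fun y : w => ((⟨y, hw.le_NN y.2⟩ : NN Z (Z i)) : NN Z (Z i) ⧸ C.subgroupOf (NN Z (Z i)))) ?_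
    intro y z hyz
    have h1 : (⟨y, hw.le_NN y.2⟩ : NN Z (Z i))⁻¹ * ⟨z, hw.le_NN z.2⟩ ∈ C.subgroupOf (NN Z (Z i)) :=
      QuotientGroup.eq.1 hyz
    have h2 : (y : G)⁻¹ * z ∈ C := h1
    have h3 := P.cen_one h01 hw hwu (mul_mem (inv_mem y.2) z.2) h2
    exact Subtype.ext (inv_mul_eq_one.1 h3)

omit q in
theorem toTQ (hC : Con Z) : TQ Z U where
  toTQ0 := P
  idx := P.idx_eq hC

end TQ0

end Cfsg.Agent.Omega.OM.TV
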