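import Cfsg.Agent.Omega.OM.TV.OfT
import Cfsg.Agent.Omega.OM.PT.PTW

/-!
# TEXT W2 (6) over `PTW`

`PTW.six` : `[N_0, N_1] = 1`.
-/

set_option autoImplicit false
set_option linter.unusedSectionVars false

namespace Cfsg.Agent.Omega.OM.PT

open Subgroup Cfsg Cfsg.Agent.ZN Cfsg.Agent.Omega.MinPar
open scoped Pointwise

universe u

variable {G : Type u} [Group G] [Finite G]

/-- the inputs of (6) -/
theorem PTW.tin {Z U : Fin 2 → Subgroup G} {B : Subgroup G} (D : PTW Z U B) : TV.TIn Z U B where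
  P := D.toPP
  X := xf D.toPP D.ab D.le
  ti := D.ti
  fus := by
    intro a ha x hx hx' hx1
    rcases D.fus2 a ha x hx hx' with h | h
    · left
      by_contra hne
      exact hx1 (ti_one D.ti ha (isPt Z 0) hne hx h)
    · right
      by_contra hne
      exact hx1 (ti_one D.ti ha (isPt Z 1) hne hx h)
  tra := by
    intro i x hx hx1
    obtain ⟨k, hk, hxk⟩ := D.pts i x hx hx1
    obtain ⟨l, h1, h2, h3, h4⟩ := D.tr i k hk
    exact ⟨l, by rw [h1]; exact hxk, h2, h3, h4⟩
  cardU := fun i => by rw [(D.rt i).2.1, pow_two]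
  core := D.core
  B2 := D.B2
  BZ := D.BH
  int := D.inter
  Bfix := D.Bfix

/-- **TEXT W2 (6)** -/
theorem PTW.six {Z U : Fin 2 → Subgroup G} {B : Subgroup G} (D : PTW Z U B) :
    NN Z (Z 0) ≤ centralizer (NN Z (Z 1) : Set G) := D.tin.com

end Cfsg.Agent.Omega.OM.PT
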