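import Cfsg.Agent.Omega.OM.TV.TL
import Cfsg.Agent.PLocal.OffenderStep

/-!
# The transvection case is impossible, two types of points, no swap (helper918, TEXT W2 #24006 (6))

`TQL.false` : `TQL Z U B → False`  (helper118 #18644 (4)-(7) for all `q`; no STEP F, no module, no (NO)).
-/

set_option autoImplicit false
set_option linter.unusedSectionVars false

namespace Cfsg.Agent.Omega.OM.TV

open Subgroup Cfsg Cfsg.Agent.ZN Cfsg.Agent.Omega.MinPar
open Cfsg.Agent.Omega.NoFF.Basic (conj_conj mem_conj conj_le_iff conj_le_centralizer comm_symm comm_mono)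
open Cfsg.Agent.Omega.NOThreeL.Pair (conj_eq_of_mem)
open Cfsg.Agent.Omega.OM.PG (HH QQ HH_conj QQ_conj conj_inv_conj inv_conj_conj)
open Cfsg.Agent.Omega.NO3S.EThree (conj_sup' conj_centralizer relIndex_conj mem_sup_of_comm norm_conj conj_norm
  conj_normalizer mem_conj_self Qt exists_qt)
open Cfsg.Agent.Omega.NO3S.EThree.PtGeo
open scoped Pointwise

universe u

variable {G : Type u} [Group G]

/-- `R_a = ⟨N_w : w ~ a⟩` -/
def RR (Z : Fin 2 → Subgroup G) (a : Subgroup G) : Subgroup G := sSup {N | ∃ w, Adj Z a w ∧ N = NN Z w}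

theorem NN_le_RR {Z : Fin 2 → Subgroup G} {a w : Subgroup G} (h : Adj Z a w) : NN Z w ≤ RR Z a :=
  le_sSup ⟨w, h, rfl⟩

theorem conj_inv_eq {g : G} {A B : Subgroup G} (h : MulAut.conj g • A = B) : MulAut.conj g⁻¹ • B = A := by
  rw [← h, inv_conj_conj]

namespace TQL

variable [Finite G] {Z U : Fin 2 → Subgroup G} {B : Subgroup G} (P : TQL Z U B)
include P

/-- nonperpendicular points of `N_a` are conjugate -/
theorem move {a w s : Subgroup G} (hw : Adj Z a w) (hs : Adj Z a s) (h : ¬ s ≤ centralizer (NN Z w : Set G)) :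
    ∃ g ∈ NN Z w ⊔ NN Z s, MulAut.conj g • w = s := by
  have hws : ¬ w ≤ centralizer (NN Z s : Set G) := fun h1 => h (P.perp_symm hs hw h1)
  obtain ⟨x, hx, hx1⟩ := P.exists_ne (P.adj_pt hw)
  obtain ⟨y, hy, hy1⟩ := P.exists_ne (P.adj_pt hs)
  have hxN := hw.le_NN hx
  have hyN := hs.le_NN hy
  have hyc : y ∉ centralizer (NN Z w : Set G) := fun h1 => hy1 (P.cen_one hw hs h hy h1)
  have hxc : x ∉ centralizer (NN Z s : Set G) := fun h1 => hx1 (P.cen_one hs hw hws hx h1)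
  obtain ⟨t, ht, α, hα, e⟩ := P.sur hw hyN hyc hx
  obtain ⟨t', ht', α', hα', e'⟩ := P.sur hs hxN hxc hy
  have h1 : t * y * t⁻¹ ∈ MulAut.conj t • s := mem_conj_self hy
  have h2 : t' * x * t'⁻¹ ∈ MulAut.conj t' • w := mem_conj_self hx
  have hta := P.conj_pt hw ht
  have hta' := P.conj_pt hs ht'
  have k1 : Adj Z a (MulAut.conj t • s) := by have := hs.conj t; rwa [hta] at this
  have k2 : Adj Z a (MulAut.conj t' • w) := by have := hw.conj t'; rwa [hta'] at this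
  have h3 : t * y * t⁻¹ ∈ a ⊔ MulAut.conj t' • w := by
    have e1 : t * y * t⁻¹ = t' * x * t'⁻¹ * (α'⁻¹ * α) := by
      rw [e, e', P.abN hw.pt hyN hxN]; group
    rw [e1]
    exact mul_mem (mem_sup_right h2) (mem_sup_left (mul_mem (inv_mem hα') hα))
  have h4 : t * y * t⁻¹ ≠ 1 := fun e => hy1 (conj_eq_one_iff.1 e)
  rcases P.fus' k2 (P.adj_pt k1) h1 h3 h4 with e1 | e1
  · exact absurd e1.symm (P.adj_ne k1)
  · refine ⟨t⁻¹ * t', mul_mem (inv_mem (mem_sup_left ht)) (mem_sup_right ht'), ?_⟩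
    rw [← conj_conj, ← e1, inv_conj_conj]

/-- perp is symmetric, `cen_one` in the form (1) -/
theorem perp_of {a w p : Subgroup G} (hw : Adj Z a w) (hp : Adj Z a p) {x : G} (hx : x ∈ p) (hx1 : x ≠ 1)
    (h : x ∈ centralizer (NN Z w : Set G)) : p ≤ centralizer (NN Z w : Set G) := by
  by_contra hcon
  exact hx1 (P.cen_one hw hp hcon hx h)

/-- every `w ~ a` is perpendicular to a point of every line of `N_a` -/
theorem perp_line {a w : Subgroup G} (hw : Adj Z a w) {i : Fin 2} {k : G} (hk : a = MulAut.conj k • Z i) :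
    ∃ p, IsPt Z p ∧ p ≤ MulAut.conj k • U (i + 1) ∧ p ≤ centralizer (NN Z w : Set G) := by
  have hu : Adj Z a (MulAut.conj k • Z (i + 1)) := ⟨i, k, hk, rfl⟩
  by_cases h : MulAut.conj k • Z (i + 1) ≤ centralizer (NN Z w : Set G)
  · exact ⟨_, P.adj_pt hu, P.pt_le_line i k, h⟩
  obtain ⟨y', hy', hle, hne⟩ := P.exists_other i k (P.adj_pt hu)
  obtain ⟨y, hy, hy1⟩ := P.exists_ne hy'
  have hyN : y ∈ NN Z a := by
    rw [hk]
    exact P.line_le_NN i k (hle hy)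
  obtain ⟨x, hx, hc⟩ := P.dec hw hu h hyN
  have h1 : x⁻¹ * y ∈ MulAut.conj k • U (i + 1) := mul_mem (inv_mem (P.pt_le_line i k hx)) (hle hy)
  have h2 : x⁻¹ * y ≠ 1 := by
    intro e
    have e1 : x = y := inv_mul_eq_one.1 e
    exact hne (P.ti _ _ hy' (P.adj_pt hu) y hy (e1 ▸ hx) hy1)
  obtain ⟨p, hp, hple, hpm⟩ := P.pts1 h1 h2
  refine ⟨p, hp, hple, P.perp_of hw ?_ hpm h2 hc⟩
  rw [hk]
  exact P.adj_of_le hp hple

theorem RR_cent {a : Subgroup G} : RR Z a ≤ centralizer (a : Set G) := by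
  refine sSup_le ?_
  rintro _ ⟨w, hw, rfl⟩
  exact P.NN_le_cent hw

omit P in
theorem conj_RR (g : G) (a : Subgroup G) : MulAut.conj g • RR Z a = RR Z (MulAut.conj g • a) := by
  have key : ∀ (g : G) (a : Subgroup G), RR Z (MulAut.conj g • a) ≤ MulAut.conj g • RR Z a := by
    intro g a
    refine sSup_le ?_
    rintro _ ⟨w, hw, rfl⟩
    have h1 := hw.conj g⁻¹
    rw [inv_conj_conj] at h1
    have h2 := conj_le_iff (g := g) |>.2 (NN_le_RR h1)
    rwa [← NN_conj, conj_inv_conj] at h2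
  refine le_antisymm ?_ (key g a)
  have h1 := key g⁻¹ (MulAut.conj g • a)
  rw [inv_conj_conj] at h1
  have h2 := conj_le_iff (g := g) |>.2 h1
  rwa [conj_inv_conj] at h2

/-- `R_a` is transitive on the `w ~ a`. -/
theorem RR_trans {a w w' : Subgroup G} (hw : Adj Z a w) (hw' : Adj Z a w') : ∃ g ∈ RR Z a, MulAut.conj g • w = w' := by
  obtain ⟨M, _, π, q⟩ := P.qt hw.pt
  obtain ⟨_, ⟨s, hs, rfl⟩, h1, h2⟩ := P.cn_one hw.pt q hw hw'
  rw [P.le_pr q hw hs] at h1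
  rw [P.le_pr q hw' hs] at h2
  obtain ⟨g₁, hg₁, e₁⟩ := P.move hw hs h1
  obtain ⟨g₂, hg₂, e₂⟩ := P.move hs hw' fun h => h2 (P.perp_symm hs hw' h)
  refine ⟨g₂ * g₁, mul_mem ?_ ?_, by rw [← conj_conj, e₁, e₂]⟩
  · exact (sup_le (NN_le_RR hs) (NN_le_RR hw')) hg₂
  · exact (sup_le (NN_le_RR hw) (NN_le_RR hs)) hg₁

/-! ### The group `W_a` -/

/-- `W_a` -/
def WW (Z U : Fin 2 → Subgroup G) (a : Subgroup G) : Subgroup G := sSup {l | LnOn Z U a l}

omit P in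
theorem le_WW {a l : Subgroup G} (h : LnOn Z U a l) : l ≤ WW Z U a := le_sSup h

theorem WW_comm {a : Subgroup G} (ha : IsPt Z a) : WW Z U a ≤ centralizer (WW Z U a : Set G) := by
  refine sSup_le fun l hl => comm_symm (sSup_le fun l' hl' => ?_)
  obtain ⟨i, k, rfl⟩ := ha
  have h1 : LnOn Z U (Z i) (MulAut.conj k⁻¹ • l) := by
    have := LnOn.conj hl k⁻¹
    rwa [inv_conj_conj] at this
  have h2 : LnOn Z U (Z i) (MulAut.conj k⁻¹ • l') := by
    have := LnOn.conj hl' k⁻¹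
    rwa [inv_conj_conj] at this
  have h3 := conj_le_centralizer (g := k) (P.ab i _ _ h2 h1)
  rwa [conj_inv_conj, conj_inv_conj] at h3

theorem WW_le_QQ {a : Subgroup G} : WW Z U a ≤ QQ a := by
  refine sSup_le ?_
  rintro _ ⟨i, k, rfl, rfl⟩
  rw [QQ_conj]
  exact conj_le_iff.2 (P.UQ' i)

theorem WW_cent_NN {a : Subgroup G} (ha : IsPt Z a) : WW Z U a ≤ centralizer (NN Z a : Set G) :=
  P.WW_le_QQ.trans (P.QQ_le_cent ha)

theorem a_le_WW {a : Subgroup G} (ha : IsPt Z a) : a ≤ WW Z U a := by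
  obtain ⟨i, k, rfl⟩ := ha
  exact (conj_le_iff.2 (P.ZU i)).trans (le_WW ⟨i, k, rfl, rfl⟩)

/-- `E` : the lines on `a` conjugate to `k U_0` in `H_a ∩ H_u` -/
def EE (U : Fin 2 → Subgroup G) (i : Fin 2) (a u : Subgroup G) (k : G) : Subgroup G :=
  sSup {l | ∃ d : G, MulAut.conj d • a = a ∧ MulAut.conj d • u = u ∧ l = MulAut.conj d • (MulAut.conj k • U i)}

omit P in
theorem conj_EE {i : Fin 2} {a u : Subgroup G} {k t : G} (ht : MulAut.conj t • a = a) (ht' : MulAut.conj t • u = u) {x : G}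
    (hx : x ∈ EE U i a u k) : t * x * t⁻¹ ∈ EE U i a u k := by
  have h1 : EE U i a u k ≤ MulAut.conj t⁻¹ • EE U i a u k := by
    refine sSup_le ?_
    rintro _ ⟨d, h1, h2, rfl⟩
    have h3 : MulAut.conj (t * d) • (MulAut.conj k • U i) ≤ EE U i a u k :=
      le_sSup ⟨t * d, by rw [← conj_conj, h1, ht], by rw [← conj_conj, h2, ht'], rfl⟩
    have h4 := conj_le_iff (g := t⁻¹) |>.2 h3
    rwa [← conj_conj t d, inv_conj_conj] at h4
  have h2 := h1 hx
  rw [mem_conj, inv_inv] at h2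
  exact h2

/-- `kU_i ≤ N_u` for `u = k Z_{i+1}` -/
theorem U_le_NN (i : Fin 2) (k : G) : MulAut.conj k • U i ≤ NN Z (MulAut.conj k • Z (i + 1)) := by
  have := P.line_le_NN (i + 1) k
  rwa [f2] at this

theorem U_le_cent (i : Fin 2) (k : G) : MulAut.conj k • U i ≤ centralizer (NN Z (MulAut.conj k • Z i) : Set G) :=
  P.line_le_cent0 i k

/-- the points of `kU_i` are adjacent to `k Z_{i+1}` -/
theorem adj_U {i : Fin 2} {k : G} {y : Subgroup G} (hy : IsPt Z y) (hle : y ≤ MulAut.conj k • U i) :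
    Adj Z (MulAut.conj k • Z (i + 1)) y := by
  rw [← f2 i] at hle
  exact P.adj_of_le hy hle

theorem ptsU {i : Fin 2} {k x : G} (hx : x ∈ MulAut.conj k • U i) (hx1 : x ≠ 1) :
    ∃ w, IsPt Z w ∧ w ≤ MulAut.conj k • U i ∧ x ∈ w := P.pts0 hx hx1

theorem exists_other0 (i : Fin 2) (k : G) {y : Subgroup G} (hy : IsPt Z y) :
    ∃ y', IsPt Z y' ∧ y' ≤ MulAut.conj k • U i ∧ y' ≠ y := by
  have := P.exists_other (i + 1) k hy
  rwa [f2] at this

/-- **`C_{N_u}(N_a) ≤ E u`** (#18644 (4)(a)) -/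
theorem cent_EE {i : Fin 2} {a u : Subgroup G} {k : G} (hk : a = MulAut.conj k • Z i) (hu : u = MulAut.conj k • Z (i + 1)) {n : G}
    (hn : n ∈ NN Z u) (hc : n ∈ centralizer (NN Z a : Set G)) : ∃ e ∈ EE U i a u k, e⁻¹ * n ∈ u := by
  have hau : Adj Z a u := ⟨i, k, hk, hu⟩
  have hua := P.adj_symm hau
  obtain ⟨M, _, π, q⟩ := P.qt hua.pt
  have g := P.geoO hua.pt q
  have hEN : EE U i a u k ≤ NN Z u := by
    refine sSup_le ?_
    rintro _ ⟨d, h1, h2, rfl⟩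
    have h3 := conj_le_iff (g := d) |>.2 (P.U_le_NN i k)
    rwa [← hu, ← NN_conj, h2] at h3
  have hA := g.inv (x := q.im a) ⟨a, hua, rfl⟩ (A := q.im (EE U i a u k)) (by
    rintro _ ⟨w, hw, rfl⟩ hp t ht _ ⟨e, he, heN, rfl⟩
    obtain ⟨τ, hτ, h1⟩ := (P.mem_Ta q hw).1 ht
    rw [P.le_pr q hua hw] at hp
    have h2 : a ≤ centralizer (NN Z w : Set G) := P.perp_symm hua hw hp
    have h3 : MulAut.conj τ • a = a := norm_conj (centralizer_le_normalizer _ (comm_symm h2 hτ))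
    rw [h1 e heN]
    have h4 := conj_EE (k := k) h3 (P.conj_pt hw hτ) he
    exact q.π_mem_im h4 (hEN h4))
  have hU : MulAut.conj k • U i ≤ EE U i a u k :=
    le_sSup ⟨1, by rw [map_one, one_smul], by rw [map_one, one_smul], by rw [map_one, one_smul]⟩
  rcases hA with hA | hA
  · exfalso
    obtain ⟨y', hy', hle, hne⟩ := P.exists_other0 i k (y := a) hau.pt
    obtain ⟨y, hy, hy1⟩ := P.exists_ne hy'
    have hay' : Adj Z u y' := by
      rw [hu]
      exact P.adj_U hy' hle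
    exact hne (P.im_inj q hay' hua hy hy1 (hA (q.π_mem_im (hU (hle hy)) (hay'.le_NN hy))))
  · obtain ⟨e, he, heN, h1⟩ := hA ((P.mem_pr q hua hn).2 hc)
    exact ⟨e, he, (q.eq_iff heN hn).1 h1⟩

/-- **`[W_a, N_u] ≤ a u`** (#18644 (5)) -/
theorem comm_WW {a u : Subgroup G} (hau : Adj Z a u) {w n : G} (hw : w ∈ WW Z U a) (hn : n ∈ NN Z u) :
    w * n * w⁻¹ * n⁻¹ ∈ a ⊔ u := by
  obtain ⟨i, k, hk, hku⟩ := hau
  have hau : Adj Z a u := ⟨i, k, hk, hku⟩
  have hua := P.adj_symm hau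
  obtain ⟨M, _, π, q⟩ := P.qt hua.pt
  have g := P.geoO hua.pt q
  have hwa : w ∈ centralizer (a : Set G) := (centralizer_le (P.a_le_WW hau.pt)) (P.WW_comm hau.pt hw)
  have hwu : w ∈ centralizer (u : Set G) := (centralizer_le hau.le_NN) (P.WW_cent_NN hau.pt hw)
  have hwu' : MulAut.conj w • u = u := norm_conj (centralizer_le_normalizer _ hwu)
  obtain ⟨φ, hφ⟩ := P.act_ex q hwu'
  have hwN : ∀ n ∈ NN Z u, w * n * w⁻¹ ∈ NN Z u := by
    intro n hn
    have h1 : MulAut.conj w • NN Z u = NN Z u := by rw [← NN_conj, hwu']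
    rw [← h1]
    exact mem_conj_self hn
  have hEW : EE U i a u k ≤ WW Z U a := by
    refine sSup_le ?_
    rintro _ ⟨d, h1, h2, rfl⟩
    refine le_WW ⟨i, d * k, ?_, (conj_conj _ _ _)⟩
    rw [← conj_conj, ← hk, h1]
  have key := g.tv (x := q.im a) ⟨a, hua, rfl⟩ (φ := φ) (by
    rintro _ ⟨s, hs, rfl⟩ hr t ht
    obtain ⟨τ, hτ, h1⟩ := (P.mem_Ta q hs).1 ht
    rw [P.mp_im q hs hwu' hφ] at hr
    have h2 : MulAut.conj w • s = s := P.im_eq q (P.adj_conj_of q hs hwu') hs hr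
    have h3 : w * τ * w⁻¹ ∈ NN Z s := by
      have := mem_conj_self (k := w) hτ
      rwa [← NN_conj, h2] at this
    obtain ⟨φ', hφ'⟩ := P.act_ex q (P.conj_pt hs h3)
    refine ⟨φ', (P.mem_Ta q hs).2 ⟨_, h3, hφ'⟩, fun m => ?_⟩
    obtain ⟨n, hn, rfl⟩ := q.surj m
    have h4 : τ * n * τ⁻¹ ∈ NN Z u := by
      have := mem_conj_self (k := τ) hn
      rwa [P.conj_NN hs hτ] at this
    rw [h1 n hn, hφ n hn, hφ' _ (hwN n hn), hφ _ h4]
    congr 1
    group) (by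
    rintro _ ⟨s, hs, rfl⟩ t ht t' ht' m hm he m'
    obtain ⟨τ, hτ, h1⟩ := (P.mem_Ta q hs).1 ht
    obtain ⟨τ', hτ', h1'⟩ := (P.mem_Ta q hs).1 ht'
    obtain ⟨n, hn, rfl⟩ := q.surj m
    obtain ⟨n', hn', rfl⟩ := q.surj m'
    rw [P.mem_pr q hs hn] at hm
    have h4 : ∀ τ ∈ NN Z s, ∀ n ∈ NN Z u, τ * n * τ⁻¹ ∈ NN Z u := by
      intro τ hτ n hn
      have := mem_conj_self (k := τ) hn
      rwa [P.conj_NN hs hτ] at this
    rw [h1 n hn, h1' n hn, q.eq_iff (h4 τ hτ n hn) (h4 τ' hτ' n hn)] at he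
    have hzz : τ⁻¹ * τ' ∈ NN Z s := mul_mem (inv_mem hτ) hτ'
    have h5 : τ⁻¹ * τ' ∈ centralizer (NN Z u : Set G) := by
      refine P.lift' hs hn hm hzz ?_
      -- `n (t n t⁻¹)⁻¹ ∈ u`
      set t₀ : G := τ⁻¹ * τ' with ht₀
      have e1 : (τ * n * τ⁻¹)⁻¹ * (τ' * n * τ'⁻¹) = τ * (n⁻¹ * (t₀ * n * t₀⁻¹)) * τ⁻¹ := by
        rw [ht₀]; group
      rw [e1] at he
      have h6 : n⁻¹ * (t₀ * n * t₀⁻¹) ∈ u := by
        have h7 := mem_conj_self (k := τ⁻¹) he
        rw [conj_inv_eq (P.conj_pt hs hτ)] at h7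
        have e2 : τ⁻¹ * (τ * (n⁻¹ * (t₀ * n * t₀⁻¹)) * τ⁻¹) * τ⁻¹⁻¹ = n⁻¹ * (t₀ * n * t₀⁻¹) := by group
        rwa [e2] at h7
      have e3 : n * t₀ * n⁻¹ * t₀⁻¹ = n * (n⁻¹ * (t₀ * n * t₀⁻¹))⁻¹ * n⁻¹ := by group
      rw [e3, ← P.aN hua.pt (inv_mem h6) hn, mul_inv_cancel_right]
      exact inv_mem h6
    rw [h1 n' hn', h1' n' hn']
    congr 1
    have h6 := mem_centralizer_iff.1 h5 n' hn'
    have e4 : τ' * n' * τ'⁻¹ = τ * ((τ⁻¹ * τ') * n' * (τ⁻¹ * τ')⁻¹) * τ⁻¹ := by group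
    rw [e4, ← h6, mul_inv_cancel_right]) (by
    intro m hm
    obtain ⟨n, hn, rfl⟩ := q.surj m
    rw [P.mem_pr q hua hn] at hm
    obtain ⟨e, he, hc⟩ := P.cent_EE hk hku hn hm
    rw [hφ n hn]
    congr 1
    have h1 : e * w = w * e := mem_centralizer_iff.1 (P.WW_comm hau.pt hw) e (hEW he)
    have h2 : e⁻¹ * n * w = w * (e⁻¹ * n) := mem_centralizer_iff.1 hwu _ hc
    have h3 : w * n = n * w := by
      calc w * n = w * e * (e⁻¹ * n) := by group
        _ = e * w * (e⁻¹ * n) := by rw [h1]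
        _ = e * (e⁻¹ * n * w) := by rw [h2]; group
        _ = n * w := by group
    rw [h3, mul_inv_cancel_right])
  have h1 := key (π n)
  rw [hφ n hn] at h1
  have h2 : π (w * n * w⁻¹) - π n = π (w * n * w⁻¹ * n⁻¹) := by
    rw [q.mul _ (hwN n hn) _ (inv_mem hn), q.inv hn]; abel
  rw [h2] at h1
  obtain ⟨α, hα, hαN, e⟩ := h1
  have h3 : α⁻¹ * (w * n * w⁻¹ * n⁻¹) ∈ u := (q.eq_iff hαN (mul_mem (hwN n hn) (inv_mem hn))).1 e
  have h4 : w * n * w⁻¹ * n⁻¹ = α * (α⁻¹ * (w * n * w⁻¹ * n⁻¹)) := by group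
  rw [h4]
  exact mul_mem (mem_sup_left hα) (mem_sup_right h3)

/-- **`N_a ∩ N_u ≤ a u`** -/
theorem inter {a u : Subgroup G} (hau : Adj Z a u) : NN Z a ⊓ NN Z u ≤ a ⊔ u := by
  obtain ⟨i, k, rfl, rfl⟩ := hau
  have h1 : NN Z (Z i) ⊓ NN Z (Z (i + 1)) ≤ Z i ⊔ Z (i + 1) := by
    rcases f01 i with e | e
    · subst e
      exact P.int
    · subst e
      have e : (1 : Fin 2) + 1 = 0 := rfl
      rw [e, inf_comm, sup_comm]
      exact P.int
  rintro n ⟨hn, hn'⟩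
  rw [NN_conj] at hn hn'
  rw [← conj_sup', mem_conj]
  exact h1 ⟨(mem_conj).1 hn, (mem_conj).1 hn'⟩

/-- `R_a` centralises `W_aN_a / aN_a` -/
theorem RR_WW {a : Subgroup G} {r w : G} (hr : r ∈ RR Z a) (hw : w ∈ WW Z U a) :
    w⁻¹ * (r * w * r⁻¹) ∈ a ⊔ NN Z a := by
  have hinv : ∀ r, MulAut.conj r • a = a → ∀ z ∈ a ⊔ NN Z a, r * z * r⁻¹ ∈ a ⊔ NN Z a := by
    intro r hr z hz
    have h1 : MulAut.conj r • (a ⊔ NN Z a) = a ⊔ NN Z a := by rw [conj_sup', ← NN_conj, hr]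
    rw [← h1]
    exact mem_conj_self hz
  let K : Subgroup G :=
    { carrier := {r | MulAut.conj r • a = a ∧ ∀ w ∈ WW Z U a, w⁻¹ * (r * w * r⁻¹) ∈ a ⊔ NN Z a}
      one_mem' := ⟨by rw [map_one, one_smul], fun w _ => by
        have : w⁻¹ * (1 * w * 1⁻¹) = 1 := by group
        rw [this]; exact one_mem _⟩
      mul_mem' := by
        rintro x y ⟨x1, x2⟩ ⟨y1, y2⟩
        refine ⟨by rw [← conj_conj, y1, x1], fun w hw => ?_⟩
        have e : w⁻¹ * (x * y * w * (x * y)⁻¹) = (w⁻¹ * (x * w * x⁻¹)) * (x * (w⁻¹ * (y * w * y⁻¹)) * x⁻¹) := by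
          group
        rw [e]
        exact mul_mem (x2 w hw) (hinv x x1 _ (y2 w hw))
      inv_mem' := by
        rintro x ⟨x1, x2⟩
        have x1' := conj_inv_eq x1
        refine ⟨x1', fun w hw => ?_⟩
        have e : w⁻¹ * (x⁻¹ * w * x⁻¹⁻¹) = x⁻¹ * (w⁻¹ * (x * w * x⁻¹))⁻¹ * x⁻¹⁻¹ := by group
        rw [e]
        exact hinv _ x1' _ (inv_mem (x2 w hw)) }
  have h1 : RR Z a ≤ K := by
    refine sSup_le ?_
    rintro _ ⟨p, hp, rfl⟩ t ht
    refine ⟨P.conj_pt hp ht, fun w hw => ?_⟩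
    have h2 := P.comm_WW hp (inv_mem hw) ht
    have e : w⁻¹ * (t * w * t⁻¹) = w⁻¹ * t * w⁻¹⁻¹ * t⁻¹ := by group
    rw [e]
    exact (sup_le_sup_left hp.le_NN a) h2
  exact (h1 hr).2 w hw

/-- `H_u ∩ R_a` normalises `kU_0` (#18644 (6)) -/
theorem norm_U {i : Fin 2} {a u : Subgroup G} {k : G} (hk : a = MulAut.conj k • Z i) (hku : u = MulAut.conj k • Z (i + 1)) {d : G}
    (hd : d ∈ RR Z a) (hdu : MulAut.conj d • u = u) :
    MulAut.conj d • (MulAut.conj k • U i) = MulAut.conj k • U i := by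
  have hau : Adj Z a u := ⟨i, k, hk, hku⟩
  have hUW : MulAut.conj k • U i ≤ WW Z U a := le_WW ⟨i, k, hk, rfl⟩
  have haU : a ≤ MulAut.conj k • U i := by
    rw [hk]
    exact conj_le_iff.2 (P.ZU i)
  have hUN : MulAut.conj k • U i ≤ NN Z u := by rw [hku]; exact P.U_le_NN i k
  refine Subgroup.eq_of_le_of_card_ge ?_ ?_
  · intro x hx
    rw [mem_conj] at hx
    set v : G := d⁻¹ * x * d with hv
    have hxv : x = d * v * d⁻¹ := by rw [hv]; group
    by_cases hv1 : v = 1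
    · rw [hxv, hv1, mul_one, mul_inv_cancel]; exact one_mem _
    obtain ⟨p, hp, hple, hvp⟩ := P.ptsU hx hv1
    have h1 := P.RR_WW hd (hUW hx)
    obtain ⟨α, hα, n, hn, e⟩ := mem_sup_of_comm (P.self' hau.pt) h1
    have hxN : d * v * d⁻¹ ∈ NN Z u := by
      have := mem_conj_self (k := d) (hUN hx)
      rwa [← NN_conj, hdu] at this
    have hnu : n ∈ NN Z u := by
      have e1 : n = α⁻¹ * (v⁻¹ * (d * v * d⁻¹)) := by rw [e]; group
      rw [e1]
      exact mul_mem (inv_mem (hUN (haU hα))) (mul_mem (inv_mem (hUN hx)) hxN)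
    obtain ⟨α', hα', υ, hυ, e2⟩ := P.mem_au hau (P.inter hau (mem_inf.2 ⟨hn, hnu⟩))
    have e3 : d * v * d⁻¹ = v * α * α' * υ := by
      have : d * v * d⁻¹ = v * (v⁻¹ * (d * v * d⁻¹)) := by group
      rw [this, e, e2]; group
    have hv' : v * α * α' ∈ MulAut.conj k • U i := mul_mem (mul_mem hx (haU hα)) (haU hα')
    have hadj : Adj Z u p := by
      rw [hku]
      exact P.adj_U hp hple
    have hadj' : Adj Z u (MulAut.conj d • p) := by
      have := hadj.conj d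
      rwa [hdu] at this
    have hxp : d * v * d⁻¹ ∈ MulAut.conj d • p := mem_conj_self hvp
    have hx1 : d * v * d⁻¹ ≠ 1 := fun e => hv1 (conj_eq_one_iff.1 e)
    by_cases h0 : v * α * α' = 1
    · exfalso
      rw [h0, one_mul] at e3
      have h2 : MulAut.conj d • p = u := P.ti _ _ (P.adj_pt hadj') hadj'.pt _ hxp (e3 ▸ hυ) hx1
      exact P.adj_ne hadj' h2.symm
    · obtain ⟨p', hp', hple', hvp'⟩ := P.ptsU hv' h0
      have hadj'' : Adj Z u p' := by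
        rw [hku]
        exact P.adj_U hp' hple'
      have h2 : d * v * d⁻¹ ∈ u ⊔ p' := by
        rw [e3]
        exact mul_mem (mem_sup_right hvp') (mem_sup_left hυ)
      rcases P.fus' hadj'' (P.adj_pt hadj') hxp h2 hx1 with h3 | h3
      · exact absurd h3.symm (P.adj_ne hadj')
      · rw [hxv]
        exact hple' (h3 ▸ hxp)
  · exact (Nat.card_congr (Subgroup.equivSMul (MulAut.conj d) (MulAut.conj k • U i : Subgroup G)).toEquiv).le

/-- `R_a` normalises the lines on `a` -/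
theorem RR_norm {i : Fin 2} {a : Subgroup G} {k : G} (hk : a = MulAut.conj k • Z i) {r : G} (hr : r ∈ RR Z a) :
    MulAut.conj r • (MulAut.conj k • U i) = MulAut.conj k • U i := by
  have h1 : RR Z a ≤ normalizer ((MulAut.conj k • U i : Subgroup G) : Set G) := by
    refine sSup_le ?_
    rintro _ ⟨w, hw, rfl⟩ t ht
    obtain ⟨p, hp, hple, hpw⟩ := P.perp_line hw hk
    obtain ⟨g, g1, g2, g3, g4⟩ := P.tr1 hp hple
    rw [← hk] at g2
    have hga := conj_inv_eq g2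
    have h2 : g⁻¹ * t * g ∈ RR Z a := by
      have h3 := mem_conj_self (k := g⁻¹) (NN_le_RR hw ht)
      rwa [conj_RR, hga, inv_inv] at h3
    have htp : MulAut.conj t • p = p := norm_conj (centralizer_le_normalizer _ (comm_symm hpw ht))
    have h3 : MulAut.conj (g⁻¹ * t * g) • (MulAut.conj k • Z (i + 1)) = MulAut.conj k • Z (i + 1) := by
      rw [← conj_conj (g⁻¹ * t) g, g1, ← conj_conj, htp, ← g1, inv_conj_conj]
    have h4 := P.norm_U hk rfl h2 h3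
    rw [← conj_conj (g⁻¹ * t) g, g4, ← conj_conj] at h4
    have h5 := congrArg (fun A => MulAut.conj g • A) h4
    simp only [conj_inv_conj] at h5
    rw [g4] at h5
    exact conj_norm h5
  exact norm_conj (h1 hr)

/-- the lines on `a` lie in `N_u` for ALL `u ~ a` -/
theorem star {a u l p : Subgroup G} (hl : LnOn Z U a l) (hau : Adj Z a u) (hp : IsPt Z p) (hple : p ≤ l) :
    Adj Z u p := by
  obtain ⟨i, k, hk, rfl⟩ := hl
  have hu' : Adj Z a (MulAut.conj k • Z (i + 1)) := ⟨i, k, hk, rfl⟩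
  obtain ⟨r, hr, e⟩ := P.RR_trans hu' hau
  have h1 := P.RR_norm hk (inv_mem hr)
  have h2 : MulAut.conj r⁻¹ • p ≤ MulAut.conj k • U i := by
    have := conj_le_iff (g := r⁻¹) |>.2 hple
    rwa [h1] at this
  have h3 := (P.adj_U (hp.conj r⁻¹) h2).conj r
  rwa [conj_inv_conj, e] at h3

/-- perpendicular points of `N_u` are on a line -/
theorem common_line {u w w' : Subgroup G} (hw : Adj Z u w) (hw' : Adj Z u w') (hne : w ≠ w')
    (hp : w' ≤ centralizer (NN Z w : Set G)) : ∃ l, LnOn Z U w l ∧ w' ≤ l := by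
  obtain ⟨i, k', hk, hkw⟩ := hw
  have hw : Adj Z u w := ⟨i, k', hk, hkw⟩
  obtain ⟨y, hy, hyle, hyne⟩ := P.exists_other i k' (y := w) (P.adj_pt hw)
  have hyu : Adj Z u y := by
    rw [hk]
    exact P.adj_of_le hy hyle
  obtain ⟨M, _, π, q⟩ := P.qt hw.pt
  have g := P.geoO hw.pt q
  obtain ⟨_, ⟨p, hpu, rfl⟩, h1, h2, h3⟩ := g.two (x := q.im w) ⟨w, hw, rfl⟩ (y := q.im y) ⟨y, hyu, rfl⟩
    (y' := q.im w') ⟨w', hw', rfl⟩ (fun e => hyne (P.im_eq q hw hyu e).symm) (fun e => hne (P.im_eq q hw hw' e))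
  rw [P.le_pr q hw hpu] at h1
  rw [P.le_pr q hyu hpu] at h2
  rw [P.le_pr q hw' hpu] at h3
  obtain ⟨g₁, hg₁, e₁⟩ := P.move hyu hpu h2
  obtain ⟨g₂, hg₂, e₂⟩ := P.move hpu hw' fun h => h3 (P.perp_symm hpu hw' h)
  have hyw : w ≤ centralizer (NN Z y : Set G) := by
    refine P.perp_symm hw hyu ?_
    rw [hkw]
    exact hyle.trans (P.line_le_cent i k')
  have hc1 : NN Z y ⊔ NN Z p ≤ centralizer (w : Set G) :=
    sup_le (comm_symm hyw) (comm_symm (P.perp_symm hw hpu h1))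
  have hc2 : NN Z p ⊔ NN Z w' ≤ centralizer (w : Set G) :=
    sup_le (comm_symm (P.perp_symm hw hpu h1)) (comm_symm (P.perp_symm hw hw' hp))
  have hd1 : NN Z y ⊔ NN Z p ≤ centralizer (u : Set G) := sup_le (P.NN_le_cent hyu) (P.NN_le_cent hpu)
  have hd2 : NN Z p ⊔ NN Z w' ≤ centralizer (u : Set G) := sup_le (P.NN_le_cent hpu) (P.NN_le_cent hw')
  have hgw : MulAut.conj (g₂ * g₁) • w = w := by
    rw [← conj_conj, norm_conj (centralizer_le_normalizer _ (hc1 hg₁)),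
      norm_conj (centralizer_le_normalizer _ (hc2 hg₂))]
  have hgy : MulAut.conj (g₂ * g₁) • y = w' := by rw [← conj_conj, e₁, e₂]
  refine ⟨MulAut.conj (g₂ * g₁ * k') • U (i + 1), ⟨i + 1, g₂ * g₁ * k', ?_, rfl⟩, ?_⟩
  · rw [← conj_conj, ← hkw, hgw]
  · rw [← conj_conj, ← hgy]
    exact conj_le_iff.2 hyle

/-- all neighbours of `u` are neighbours of `u'` -/
theorem nbrs {a u u' w : Subgroup G} (hau : Adj Z a u) (hau' : Adj Z a u') (hw : Adj Z u w) : Adj Z u' w := by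
  have step : ∀ w w', Adj Z u w → Adj Z u' w → Adj Z u w' → w' ≤ centralizer (NN Z w : Set G) → Adj Z u' w' := by
    intro w w' h1 h2 h3 h4
    by_cases hne : w = w'
    · rwa [← hne]
    obtain ⟨l, hl, hle⟩ := P.common_line h1 h3 hne h4
    exact P.star hl (P.adj_symm h2) (P.adj_pt h3) hle
  obtain ⟨i, k, hk, hka⟩ := P.adj_symm hau
  obtain ⟨p, hp, hple, hpw⟩ := P.perp_line hw hk
  have hup : Adj Z u p := by rw [hk]; exact P.adj_of_le hp hple
  have hu'p : Adj Z u' p := by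
    have hl : LnOn Z U a (MulAut.conj k • U (i + 1)) := ⟨i + 1, k, hka, rfl⟩
    exact P.star hl hau' hp hple
  exact step p w hup hu'p hw (P.perp_symm hw hup hpw)

/-- **The transvection case is impossible.** -/
theorem false : False := by
  have h01 : Adj Z (Z 0) (Z 1) := adj_Z 0
  have key : ∀ u u', Adj Z (Z 0) u → Adj Z (Z 0) u' → NN Z u ≤ NN Z u' := fun u u' h h' =>
    sSup_le fun w hw => (P.nbrs h h' hw).le_NN
  have h1 : HH (Z 0) ≤ normalizer (NN Z (Z 1) : Set G) := by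
    intro g hg
    have h2 : Adj Z (Z 0) (MulAut.conj g • Z 1) := by
      have := h01.conj g
      rwa [norm_conj hg] at this
    apply conj_norm
    rw [← NN_conj]
    exact le_antisymm (key _ _ h2 h01) (key _ _ h01 h2)
  have h2 : IsPGroup 2 (NN Z (Z 1)) := fun x => ⟨1, Subtype.ext (by
    have := P.sq_one (P.adj_pt h01) x.2
    change (x : G) ^ 2 ^ 1 = 1
    rw [pow_one, pow_two, this])⟩
  have h3 := P.nonLoc (NN Z (Z 1)) h2 h1 (HH_le_NN (Z 1))
  have h4 : Z 0 ≤ NN Z (Z 1) := (P.adj_symm h01).le_NN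
  rw [h3] at h4
  exact P.ne 0 (le_bot_iff.1 h4)

end TQL

end Cfsg.Agent.Omega.OM.TV
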