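import Cfsg.Agent.Omega.OM.TV.Base

/-!
# Two types of points: the geometry of `N_a / a` in the transvection case

`M = N_a / a`, the points are the images of the `w ~ a`, `T` = the automorphisms induced by `N_w`.

* `TQ.geo` : `PtGeo.Geo`; `TQ.mem_pr` : `π n ∈ pr T (im w)` iff `[n, N_w] = 1`.
-/

set_option autoImplicit false
set_option linter.unusedSectionVars false

namespace Cfsg.Agent.Omega.OM.TV

open Subgroup Cfsg Cfsg.Agent.ZN Cfsg.Agent.Omega.MinPar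
open Cfsg.Agent.Omega.NoFF.Basic (conj_conj mem_conj conj_le_iff conj_le_centralizer comm_symm comm_mono)
open Cfsg.Agent.Omega.NOThreeL.Pair (conj_eq_of_mem)
open Cfsg.Agent.Omega.OM.PG (HH QQ HH_conj QQ_conj conj_inv_conj inv_conj_conj)
open Cfsg.Agent.Omega.NO3S.EThree (conj_sup' conj_centralizer relIndex_conj mem_sup_of_comm norm_conj conj_norm
  conj_normalizer mem_conj_self Qt exists_qt)
open Cfsg.Agent.Omega.NO3S.EThree.PtGeo
open scoped Pointwise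

universe u

variable {G : Type u} [Group G]

/-- The points of `M = N_a / a`. -/
def PPa {Z : Fin 2 → Subgroup G} {a : Subgroup G} {M : Type u} [AddCommGroup M] {π : G → M}
    (q : Qt (NN Z a) a M π) : Set (AddSubgroup M) := {p | ∃ w, Adj Z a w ∧ p = q.im w}

/-- The automorphisms induced by `N_w`. -/
def Ta {Z : Fin 2 → Subgroup G} {a : Subgroup G} {M : Type u} [AddCommGroup M] {π : G → M}
    (q : Qt (NN Z a) a M π) : AddSubgroup M → Set (M ≃+ M) :=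
  fun p => {φ | ∃ w, Adj Z a w ∧ p = q.im w ∧ ∃ t ∈ NN Z w, ∀ x ∈ NN Z a, φ (π x) = π (t * x * t⁻¹)}

namespace TQ0

variable [Finite G] {Z U : Fin 2 → Subgroup G} (P : TQ0 Z U)
include P

theorem qt {a : Subgroup G} (ha : IsPt Z a) : ∃ (M : Type u) (_ : AddCommGroup M) (π : G → M), Qt (NN Z a) a M π :=
  exists_qt _ _ fun _ hx _ hy => P.abN ha hx hy

variable {a : Subgroup G} {M : Type u} [AddCommGroup M] {π : G → M} (q : Qt (NN Z a) a M π)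
include q

theorem pt_disj {w : Subgroup G} (hw : Adj Z a w) {x : G} (hx : x ∈ w) (hxa : x ∈ a) : x = 1 := by
  by_contra h1
  exact P.adj_ne hw (P.ti _ _ hw.pt (P.adj_pt hw) x hxa hx h1)

theorem π_ne {w : Subgroup G} (hw : Adj Z a w) {x : G} (hx : x ∈ w) (hx1 : x ≠ 1) : π x ≠ 0 := by
  rw [Ne, q.ker x (hw.le_NN hx)]
  exact fun h => hx1 (P.pt_disj q hw hx h)

theorem im_inj {w w' : Subgroup G} (hw : Adj Z a w) (hw' : Adj Z a w') {x : G} (hx : x ∈ w) (hx1 : x ≠ 1)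
    (h : π x ∈ q.im w') : w = w' := by
  obtain ⟨y, hy, hyN, e⟩ := q.mem_im.1 h
  have h1 : y⁻¹ * x ∈ a := (q.eq_iff hyN (hw.le_NN hx)).1 e
  have h2 : x ∈ a ⊔ w' := by
    have : x = y * (y⁻¹ * x) := by group
    rw [this]
    exact mul_mem (mem_sup_right hy) (mem_sup_left h1)
  rcases P.fus' hw' (P.adj_pt hw) hx h2 hx1 with e' | e'
  · exact absurd e'.symm (P.adj_ne hw)
  · exact e'

theorem im_eq {w w' : Subgroup G} (hw : Adj Z a w) (hw' : Adj Z a w') (h : q.im w = q.im w') : w = w' := by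
  obtain ⟨x, hx, hx1⟩ := P.exists_ne (P.adj_pt hw)
  exact P.im_inj q hw hw' hx hx1 (h ▸ q.π_mem_im hx (hw.le_NN hx))

theorem act_ex {t : G} (ht : MulAut.conj t • a = a) :
    ∃ φ : M ≃+ M, ∀ x ∈ NN Z a, φ (π x) = π (t * x * t⁻¹) :=
  q.exists_act (by rw [← NN_conj, ht]) ht

theorem mem_Ta {w : Subgroup G} (hw : Adj Z a w) {φ : M ≃+ M} :
    φ ∈ Ta q (q.im w) ↔ ∃ t ∈ NN Z w, ∀ x ∈ NN Z a, φ (π x) = π (t * x * t⁻¹) := by
  constructor
  · rintro ⟨w', hw', e, t, ht, h⟩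
    have := P.im_eq q hw hw' e
    subst this
    exact ⟨t, ht, h⟩
  · rintro ⟨t, ht, h⟩
    exact ⟨w, hw, rfl, t, ht, h⟩

theorem adj_conj_of {w : Subgroup G} (hw : Adj Z a w) {t : G} (ht : MulAut.conj t • a = a) :
    Adj Z a (MulAut.conj t • w) := by
  have := hw.conj t
  rwa [ht] at this

theorem mp_im {w : Subgroup G} (hw : Adj Z a w) {t : G} (ht : MulAut.conj t • a = a) {φ : M ≃+ M}
    (hφ : ∀ x ∈ NN Z a, φ (π x) = π (t * x * t⁻¹)) : mp φ (q.im w) = q.im (MulAut.conj t • w) := by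
  ext m
  rw [mem_mp]
  constructor
  · rintro ⟨_, ⟨x, hx, hxN, rfl⟩, rfl⟩
    refine ⟨t * x * t⁻¹, ?_, ?_, (hφ x hxN).symm⟩
    · rw [mem_conj]
      have : t⁻¹ * (t * x * t⁻¹) * t = x := by group
      rwa [this]
    · have h1 : MulAut.conj t • NN Z a = NN Z a := by rw [← NN_conj, ht]
      rw [← h1, mem_conj]
      have : t⁻¹ * (t * x * t⁻¹) * t = x := by group
      rwa [this]
  · rintro ⟨y, hy, hyN, rfl⟩
    rw [mem_conj] at hy
    refine ⟨π (t⁻¹ * y * t), q.π_mem_im hy (hw.le_NN hy), ?_⟩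
    rw [hφ _ (hw.le_NN hy)]
    congr 1
    group

end TQ0

namespace TQ

variable [Finite G] {Z U : Fin 2 → Subgroup G} (P : TQ Z U)
include P

variable {a : Subgroup G} {M : Type u} [AddCommGroup M] {π : G → M} (q : Qt (NN Z a) a M π)
include q

/-- `π n` is fixed by `N_w` iff `[n, N_w] = 1`. -/
theorem mem_pr {w : Subgroup G} (hw : Adj Z a w) {n : G} (hn : n ∈ NN Z a) :
    π n ∈ pr (Ta q) (q.im w) ↔ n ∈ centralizer (NN Z w : Set G) := by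
  constructor
  · intro h
    refine P.lift hw hn fun t ht => ?_
    obtain ⟨φ, hφ⟩ := P.act_ex q (P.conj_pt hw ht)
    have h1 : φ (π n) = π n := h φ ((P.mem_Ta q hw).2 ⟨t, ht, hφ⟩)
    rw [hφ n hn] at h1
    have htn : t * n * t⁻¹ ∈ NN Z a := by
      rw [← P.conj_NN hw ht, mem_conj]
      have : t⁻¹ * (t * n * t⁻¹) * t = n := by group
      rwa [this]
    rw [q.eq_iff htn hn] at h1
    have h2 : (t * n * t⁻¹)⁻¹ * n = n⁻¹ * (n * t * n⁻¹ * t⁻¹) * n := by group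
    rw [h2] at h1
    have h3 : n * (n⁻¹ * (n * t * n⁻¹ * t⁻¹) * n) * n⁻¹ ∈ a := by
      have : n * (n⁻¹ * (n * t * n⁻¹ * t⁻¹) * n) * n⁻¹ = n⁻¹ * (n * t * n⁻¹ * t⁻¹) * n := by
        rw [← P.aN hw.pt h1 hn, mul_inv_cancel_right]
      rw [this]
      exact h1
    have h4 : n * (n⁻¹ * (n * t * n⁻¹ * t⁻¹) * n) * n⁻¹ = n * t * n⁻¹ * t⁻¹ := by group
    rwa [h4] at h3
  · intro h φ hφ
    obtain ⟨t, ht, h1⟩ := (P.mem_Ta q hw).1 hφ
    rw [h1 n hn]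
    have : t * n * t⁻¹ = n := by rw [mem_centralizer_iff.1 h t ht, mul_inv_cancel_right]
    rw [this]

theorem le_pr {w w' : Subgroup G} (hw : Adj Z a w) (hw' : Adj Z a w') :
    q.im w' ≤ pr (Ta q) (q.im w) ↔ w' ≤ centralizer (NN Z w : Set G) := by
  constructor
  · intro h x hx
    exact (P.mem_pr q hw (hw'.le_NN hx)).1 (h (q.π_mem_im hx (hw'.le_NN hx)))
  · rintro h _ ⟨x, hx, hxN, rfl⟩
    exact (P.mem_pr q hw hxN).2 (h hx)

/-- The geometry. -/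
theorem geo : Geo (PPa q) (Ta q) where
  ne := by
    rintro _ ⟨w, hw, rfl⟩
    obtain ⟨x, hx, hx1⟩ := P.exists_ne (P.adj_pt hw)
    exact ⟨π x, q.π_mem_im hx (hw.le_NN hx), P.π_ne q hw hx hx1⟩
  ti := by
    rintro _ ⟨w, hw, rfl⟩ _ ⟨w', hw', rfl⟩ m ⟨x, hx, hxN, rfl⟩ h h0
    have hx1 : x ≠ 1 := by
      rintro rfl
      exact h0 q.one
    rw [P.im_inj q hw hw' hx hx1 h]
  mem := by
    rintro _ ⟨w, hw, rfl⟩ φ hφ m
    obtain ⟨t, ht, h1⟩ := (P.mem_Ta q hw).1 hφ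
    obtain ⟨n, hn, rfl⟩ := q.surj m
    rw [h1 n hn]
    obtain ⟨α, hα, υ, hυ, e⟩ := P.mem_au hw (P.com' hw hn ht)
    have hυN := hw.le_NN hυ
    have htn : t * n * t⁻¹ ∈ NN Z a := by
      rw [← P.conj_NN hw ht, mem_conj]
      have : t⁻¹ * (t * n * t⁻¹) * t = n := by group
      rwa [this]
    -- `t n t⁻¹ = n υ⁻¹ α⁻¹`
    have e1 : (t * n * t⁻¹)⁻¹ * (n * υ⁻¹) ∈ a := by
      have e2 : (t * n * t⁻¹)⁻¹ = n⁻¹ * (n * t * n⁻¹ * t⁻¹) := by group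
      have e3 : υ * n = n * υ := P.abN hw.pt hυN hn
      have e4 : n⁻¹ * α = α * n⁻¹ := (P.aN hw.pt hα (inv_mem hn)).symm
      have e5 : (t * n * t⁻¹)⁻¹ * (n * υ⁻¹) = α := by
        rw [e2, e]
        calc n⁻¹ * (α * υ) * (n * υ⁻¹) = (n⁻¹ * α) * (υ * n) * υ⁻¹ := by group
          _ = (α * n⁻¹) * (n * υ) * υ⁻¹ := by rw [e3, e4]
          _ = α := by group
      rw [e5]
      exact hα
    have e6 : π (t * n * t⁻¹) = π (n * υ⁻¹) := (q.eq_iff htn (mul_mem hn (inv_mem hυN))).2 e1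
    rw [e6, q.mul n hn _ (inv_mem hυN), add_sub_cancel_left]
    exact q.π_mem_im (inv_mem hυ) (inv_mem hυN)
  self := by
    rintro _ ⟨w, hw, rfl⟩
    exact (P.le_pr q hw hw).2 (P.self_le (P.adj_pt hw))
  act := by
    rintro _ ⟨w, hw, rfl⟩ φ hφ _ ⟨r, hr, rfl⟩
    obtain ⟨t, ht, h1⟩ := (P.mem_Ta q hw).1 hφ
    exact ⟨_, P.adj_conj_of q hr (P.conj_pt hw ht), P.mp_im q hr (P.conj_pt hw ht) h1⟩
  cj := by
    rintro _ ⟨w, hw, rfl⟩ φ hφ _ ⟨r, hr, rfl⟩ m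
    obtain ⟨t, ht, h1⟩ := (P.mem_Ta q hw).1 hφ
    obtain ⟨n, hn, rfl⟩ := q.surj m
    have htn : t * n * t⁻¹ ∈ NN Z a := by
      rw [← P.conj_NN hw ht, mem_conj]
      have : t⁻¹ * (t * n * t⁻¹) * t = n := by group
      rwa [this]
    rw [P.mp_im q hr (P.conj_pt hw ht) h1, h1 n hn, P.mem_pr q (P.adj_conj_of q hr (P.conj_pt hw ht)) htn,
      P.mem_pr q hr hn, NN_conj, ← conj_centralizer, mem_conj]
    have : t⁻¹ * (t * n * t⁻¹) * t = n := by group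
    rw [this]
  sur := by
    rintro _ ⟨w, hw, rfl⟩ m hm v ⟨υ, hυ, hυN, rfl⟩
    obtain ⟨n, hn, rfl⟩ := q.surj m
    rw [P.mem_pr q hw hn] at hm
    obtain ⟨t, ht, α, hα, e⟩ := P.sur hw hn hm hυ
    obtain ⟨φ, hφ⟩ := P.act_ex q (P.conj_pt hw ht)
    refine ⟨φ, (P.mem_Ta q hw).2 ⟨t, ht, hφ⟩, ?_⟩
    rw [hφ n hn, ← q.mul n hn υ hυN, q.eq_iff ?_ (mul_mem hn hυN), e]
    · have : (n * υ * α)⁻¹ * (n * υ) = α⁻¹ := by group
      rw [this]
      exact inv_mem hα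
    · rw [← P.conj_NN hw ht, mem_conj]
      have : t⁻¹ * (t * n * t⁻¹) * t = n := by group
      rwa [this]
  sym := by
    rintro _ ⟨w, hw, rfl⟩ _ ⟨r, hr, rfl⟩ h
    rw [P.le_pr q hw hr] at h
    rw [P.le_pr q hr hw]
    exact P.perp_symm hw hr h
  ix := by
    rintro _ ⟨w, hw, rfl⟩ _ ⟨r, hr, rfl⟩ h m
    rw [P.le_pr q hw hr] at h
    obtain ⟨n, hn, rfl⟩ := q.surj m
    obtain ⟨x, hx, hc⟩ := P.dec hw hr h hn
    have hxN := hr.le_NN hx
    refine ⟨π x, q.π_mem_im hx hxN, ?_⟩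
    have h1 : π n - π x = π (x⁻¹ * n) := by
      rw [q.mul _ (inv_mem hxN) _ hn, q.inv hxN]; abel
    rw [h1]
    exact (P.mem_pr q hw (mul_mem (inv_mem hxN) hn)).2 hc

end TQ

end Cfsg.Agent.Omega.OM.TV
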