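import Cfsg.Agent.Omega.OM.TV.TG

/-!
# Two types of points, the transvection case: lines, one component

`TQL Z U B` : `TQ` with `O₂(H/F) = 1`, lines `U`, `N_0 ∩ N_1 ≤ Z_0Z_1`, and a 2-group `B` with `C_{N_i}(B) ≤ Z_0Z_1`.

* `TQL.geoO` : `PtGeo.GeoO` for every `a`.
-/

set_option autoImplicit false
set_option linter.unusedSectionVars false

namespace Cfsg.Agent.Omega.OM.TV

open Subgroup Cfsg Cfsg.Agent.ZN Cfsg.Agent.Omega.MinPar
open Cfsg.Agent.Omega.NoFF.Basic (conj_conj mem_conj conj_le_iff conj_le_centralizer comm_symm comm_mono)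
open Cfsg.Agent.Omega.NOThreeL.Pair (conj_eq_of_mem)
open Cfsg.Agent.Omega.OM.PG (HH QQ HH_conj QQ_conj conj_inv_conj inv_conj_conj)
open Cfsg.Agent.Omega.NO3S.EThree (conj_sup' conj_centralizer relIndex_conj mem_sup_of_comm norm_conj conj_norm
  conj_normalizer mem_conj_self Qt exists_qt)
open Cfsg.Agent.Omega.NO3S.EThree.PtGeo
open scoped Pointwise

universe u

variable {G : Type u} [Group G]

namespace TQ0

variable [Finite G] {Z U : Fin 2 → Subgroup G} (P : TQ0 Z U)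
include P

/-- the points of the line `k U_{i+1}` are adjacent to `k Z_i`; more precisely -/
theorem tr1 {i : Fin 2} {k : G} {y : Subgroup G} (hy : IsPt Z y) (hle : y ≤ MulAut.conj k • U (i + 1)) :
    ∃ g : G, MulAut.conj g • (MulAut.conj k • Z (i + 1)) = y ∧
      MulAut.conj g • (MulAut.conj k • Z i) = MulAut.conj k • Z i ∧
      MulAut.conj g • (MulAut.conj k • U (i + 1)) = MulAut.conj k • U (i + 1) ∧
      MulAut.conj g • (MulAut.conj k • U i) = MulAut.conj k • U i := by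
  have h1 : MulAut.conj k⁻¹ • y ≤ U (i + 1) := by
    have := conj_le_iff (g := k⁻¹) |>.2 hle
    rwa [inv_conj_conj] at this
  obtain ⟨l, l0, l1, l2, l3⟩ := P.tr (i + 1) _ (hy.conj k⁻¹) h1
  rw [f2] at l1 l3
  refine ⟨k * l * k⁻¹, ?_, ?_, ?_, ?_⟩
  · rw [← conj_conj, inv_conj_conj, ← conj_conj, l0, conj_inv_conj]
  · rw [← conj_conj, inv_conj_conj, ← conj_conj, l1]
  · rw [← conj_conj, inv_conj_conj, ← conj_conj, l2]
  · rw [← conj_conj, inv_conj_conj, ← conj_conj, l3]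

theorem adj_of_le {i : Fin 2} {k : G} {y : Subgroup G} (hy : IsPt Z y) (hle : y ≤ MulAut.conj k • U (i + 1)) :
    Adj Z (MulAut.conj k • Z i) y := by
  obtain ⟨g, h1, h2, -, -⟩ := P.tr1 hy hle
  exact ⟨i, g * k, by rw [← conj_conj, h2], by rw [← conj_conj, h1]⟩

/-- lines -/
theorem pts0 {i : Fin 2} {k x : G} (hx : x ∈ MulAut.conj k • U i) (hx1 : x ≠ 1) :
    ∃ w, IsPt Z w ∧ w ≤ MulAut.conj k • U i ∧ x ∈ w := by
  have h1 : k⁻¹ * x * k ∈ U i := by rwa [mem_conj] at hx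
  have h2 : k⁻¹ * x * k ≠ 1 := by
    intro e
    apply hx1
    have : x = k * (k⁻¹ * x * k) * k⁻¹ := by group
    rw [this, e]; group
  obtain ⟨w, hw, hle, hxw⟩ := P.pts i _ h1 h2
  refine ⟨MulAut.conj k • w, hw.conj _, conj_le_iff.2 hle, ?_⟩
  rw [mem_conj]; exact hxw

theorem pts1 {i : Fin 2} {k x : G} (hx : x ∈ MulAut.conj k • U (i + 1)) (hx1 : x ≠ 1) :
    ∃ w, IsPt Z w ∧ w ≤ MulAut.conj k • U (i + 1) ∧ x ∈ w := P.pts0 hx hx1

theorem pt_le_line (i : Fin 2) (k : G) : MulAut.conj k • Z (i + 1) ≤ MulAut.conj k • U (i + 1) :=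
  conj_le_iff.2 (P.ZU _)

theorem line_le_NN (i : Fin 2) (k : G) : MulAut.conj k • U (i + 1) ≤ NN Z (MulAut.conj k • Z i) := by
  intro x hx
  by_cases hx1 : x = 1
  · rw [hx1]; exact one_mem _
  obtain ⟨w, hw, hle, hxw⟩ := P.pts1 hx hx1
  exact (P.adj_of_le hw hle).le_NN hxw

theorem line_le_cent0 (i : Fin 2) (k : G) : MulAut.conj k • U i ≤ centralizer (NN Z (MulAut.conj k • Z i) : Set G) := by
  have h1 : MulAut.conj k • U i ≤ QQ (MulAut.conj k • Z i) := by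
    rw [QQ_conj]
    exact conj_le_iff.2 (P.UQ' i)
  exact h1.trans (P.QQ_le_cent ⟨_, _, rfl⟩)

theorem line_le_cent (i : Fin 2) (k : G) :
    MulAut.conj k • U (i + 1) ≤ centralizer (NN Z (MulAut.conj k • Z (i + 1)) : Set G) := P.line_le_cent0 _ k

theorem card_line0 (i : Fin 2) (k : G) : Nat.card (MulAut.conj k • U i : Subgroup G) = Nat.card (Z 0) ^ 2 := by
  rw [← P.cardU i]
  exact (Nat.card_congr (Subgroup.equivSMul (MulAut.conj k) (U i)).toEquiv).symm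

theorem card_line (i : Fin 2) (k : G) : Nat.card (MulAut.conj k • U (i + 1) : Subgroup G) = Nat.card (Z 0) ^ 2 :=
  P.card_line0 _ k

/-- a line is generated by two different points -/
theorem line_eq {i : Fin 2} {k : G} {y y' : Subgroup G} (hy : IsPt Z y) (hy' : IsPt Z y') (h : y ≤ MulAut.conj k • U (i + 1))
    (h' : y' ≤ MulAut.conj k • U (i + 1)) (hne : y ≠ y') : y ⊔ y' = MulAut.conj k • U (i + 1) := by
  refine Subgroup.eq_of_le_of_card_ge (sup_le h h') ?_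
  rw [P.card_line, pow_two]
  have h1 : Nat.card (y × y') ≤ Nat.card (y ⊔ y' : Subgroup G) := by
    refine Nat.card_le_card_of_injective
      (fun p : y × y' => (⟨p.1 * p.2, mul_mem (mem_sup_left p.1.2) (mem_sup_right p.2.2)⟩ : (y ⊔ y' : Subgroup G))) ?_
    rintro ⟨a, b⟩ ⟨c, d⟩ e
    have e1 : (a : G) * b = c * d := congrArg Subtype.val e
    have e2 : (c : G)⁻¹ * a = d * (b : G)⁻¹ := by
      calc (c : G)⁻¹ * a = (c : G)⁻¹ * (a * b) * (b : G)⁻¹ := by group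
        _ = (c : G)⁻¹ * (c * d) * (b : G)⁻¹ := by rw [e1]
        _ = d * (b : G)⁻¹ := by group
    have e3 : (c : G)⁻¹ * a = 1 := by
      by_contra h0
      exact hne (P.ti _ _ hy hy' _ (mul_mem (inv_mem c.2) a.2) (e2 ▸ mul_mem d.2 (inv_mem b.2)) h0)
    have e4 : (c : G) = a := inv_mul_eq_one.1 e3
    have e5 : (d : G) = b := by
      rw [e3] at e2
      exact (mul_inv_eq_one.1 e2.symm)
    exact Prod.ext (Subtype.ext e4.symm) (Subtype.ext e5.symm)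
  rwa [Nat.card_prod, P.card_pt hy, P.card_pt hy'] at h1

/-- another point on the line -/
theorem exists_other (i : Fin 2) (k : G) {y : Subgroup G} (hy : IsPt Z y) :
    ∃ y', IsPt Z y' ∧ y' ≤ MulAut.conj k • U (i + 1) ∧ y' ≠ y := by
  by_contra hcon
  push Not at hcon
  have h1 : MulAut.conj k • U (i + 1) ≤ y := by
    intro x hx
    by_cases hx1 : x = 1
    · rw [hx1]; exact one_mem _
    obtain ⟨w, hw, hle, hxw⟩ := P.pts1 hx hx1
    rwa [← hcon w hw hle]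
  have h2 := Subgroup.card_le_of_le h1
  rw [P.card_line, P.card_pt hy] at h2
  have h3 := P.one_lt
  nlinarith

theorem sq_one {a : Subgroup G} (ha : IsPt Z a) {x : G} (hx : x ∈ NN Z a) : x * x = 1 := by
  let K : Subgroup G :=
    { carrier := {x | x ∈ NN Z a ∧ x * x = 1}
      one_mem' := ⟨one_mem _, one_mul _⟩
      mul_mem' := fun {x y} hx hy => ⟨mul_mem hx.1 hy.1, by
        have h1 := P.abN ha hx.1 hy.1
        calc x * y * (x * y) = x * (y * x) * y := by group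
          _ = x * (x * y) * y := by rw [h1]
          _ = (x * x) * (y * y) := by group
          _ = 1 := by rw [hx.2, hy.2, one_mul]⟩
      inv_mem' := fun {x} hx => ⟨inv_mem hx.1, by
        have : x⁻¹ * x⁻¹ = (x * x)⁻¹ := by group
        rw [this, hx.2, inv_one]⟩ }
  have h1 : NN Z a ≤ K := by
    refine sSup_le fun u hu y hy => ⟨hu.le_NN hy, ?_⟩
    rw [← pow_two]
    exact P.ZsqConj (P.adj_pt hu) y hy
  exact (h1 hx).2

end TQ0

/-- The transvection case, with lines and `B`. -/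
structure TQL (Z U : Fin 2 → Subgroup G) (B : Subgroup G) : Prop extends TQ Z U where
  core : ∀ i, ∀ J : Subgroup G, J ≤ HH (Z i) → HH (Z i) ≤ normalizer (J : Set G) →
    (∀ y ∈ J, y * y ∈ centralizer (NN Z (Z i) : Set G)) → J ≤ centralizer (NN Z (Z i) : Set G)
  B2 : IsPGroup 2 B
  BZ : ∀ i, B ≤ HH (Z i)
  int : NN Z (Z 0) ⊓ NN Z (Z 1) ≤ Z 0 ⊔ Z 1
  Bfix : ∀ i, ∀ n ∈ NN Z (Z i), (∀ b ∈ B, b * n * b⁻¹ = n) → n ∈ Z 0 ⊔ Z 1
  ab : ∀ i, ∀ l l', LnOn Z U (Z i) l → LnOn Z U (Z i) l' → l ≤ centralizer (l' : Set G)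

namespace TQL

variable [Finite G] {Z U : Fin 2 → Subgroup G} {B : Subgroup G} (P : TQL Z U B)
include P

omit P in
theorem supZ (i : Fin 2) : Z 0 ⊔ Z 1 = Z i ⊔ Z (i + 1) := by
  rcases f01 i with h | h
  · subst h; rfl
  · subst h
    have e : (1 : Fin 2) + 1 = 0 := rfl
    rw [e, sup_comm]

theorem core' {a : Subgroup G} (ha : IsPt Z a) (J : Subgroup G) (h1 : J ≤ HH a)
    (h2 : HH a ≤ normalizer (J : Set G)) (h3 : ∀ y ∈ J, y * y ∈ centralizer (NN Z a : Set G)) :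
    J ≤ centralizer (NN Z a : Set G) := by
  obtain ⟨i, k, rfl⟩ := ha
  have k1 : MulAut.conj k⁻¹ • J ≤ HH (Z i) := by
    have := conj_le_iff (g := k⁻¹) |>.2 h1
    rwa [← HH_conj, inv_conj_conj] at this
  have k2 : HH (Z i) ≤ normalizer ((MulAut.conj k⁻¹ • J : Subgroup G) : Set G) := by
    have := conj_le_iff (g := k⁻¹) |>.2 h2
    rwa [← HH_conj, inv_conj_conj, conj_normalizer] at this
  have k3 : ∀ y ∈ MulAut.conj k⁻¹ • J, y * y ∈ centralizer (NN Z (Z i) : Set G) := by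
    intro y hy
    rw [mem_conj, inv_inv] at hy
    have := h3 _ hy
    rw [NN_conj, ← conj_centralizer, mem_conj] at this
    have e : k⁻¹ * (k * y * k⁻¹ * (k * y * k⁻¹)) * k = y * y := by group
    rwa [e] at this
  have k4 := P.core i _ k1 k2 k3
  have k5 := conj_le_iff (g := k) |>.2 k4
  rwa [conj_inv_conj, conj_centralizer, ← NN_conj] at k5

/-- the radical -/
def II (Z : Fin 2 → Subgroup G) (a : Subgroup G) : Subgroup G :=
  NN Z a ⊓ ⨅ r : {r : Subgroup G // Adj Z a r}, centralizer (NN Z r : Set G)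

omit P in
theorem mem_II {a : Subgroup G} {x : G} : x ∈ II Z a ↔ x ∈ NN Z a ∧ ∀ r, Adj Z a r → x ∈ centralizer (NN Z r : Set G) := by
  unfold II
  rw [mem_inf, mem_iInf]
  exact ⟨fun h => ⟨h.1, fun r hr => h.2 ⟨r, hr⟩⟩, fun h => ⟨h.1, fun r => h.2 r r.2⟩⟩

omit P in
theorem conj_II {a : Subgroup G} {g x : G} (hg : MulAut.conj g • a = a) (hx : x ∈ II Z a) : g * x * g⁻¹ ∈ II Z a := by
  rw [mem_II] at hx ⊢
  have h1 : MulAut.conj g • NN Z a = NN Z a := by rw [← NN_conj, hg]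
  refine ⟨by rw [← h1]; exact mem_conj_self hx.1, fun r hr => ?_⟩
  have h2 : Adj Z a (MulAut.conj g⁻¹ • r) := by
    have h3 := hr.conj g⁻¹
    have h4 : MulAut.conj g⁻¹ • a = a := by
      have := congrArg (fun A => MulAut.conj g⁻¹ • A) hg
      simp only [inv_conj_conj] at this
      exact this.symm
    rwa [h4] at h3
  have h3 := mem_conj_self (k := g) (hx.2 _ h2)
  rwa [conj_centralizer, ← NN_conj, conj_inv_conj] at h3

theorem o2' {a : Subgroup G} (ha : IsPt Z a) {w w' : Subgroup G} (hw : Adj Z a w) (hw' : Adj Z a w') {τ τ' : G}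
    (hτ : τ ∈ NN Z w) (hτ' : τ' ∈ NN Z w')
    (h : ∀ n ∈ NN Z a, n⁻¹ * (τ' * τ * n * (τ' * τ)⁻¹) ∈ II Z a) : τ' * τ ∈ centralizer (NN Z a : Set G) := by
  let J : Subgroup G :=
    { carrier := {h | MulAut.conj h • a = a ∧ (∀ i ∈ II Z a, h * i * h⁻¹ = i) ∧
        ∀ n ∈ NN Z a, n⁻¹ * (h * n * h⁻¹) ∈ II Z a}
      one_mem' := ⟨by rw [map_one, one_smul], fun i _ => by group, fun n _ => by
        have : n⁻¹ * (1 * n * 1⁻¹) = 1 := by group
        rw [this]; exact one_mem _⟩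
      mul_mem' := by
        rintro x y ⟨x1, x2, x3⟩ ⟨y1, y2, y3⟩
        refine ⟨by rw [← conj_conj, y1, x1], fun i hi => ?_, fun n hn => ?_⟩
        · have : x * y * i * (x * y)⁻¹ = x * (y * i * y⁻¹) * x⁻¹ := by group
          rw [this, y2 i hi, x2 i hi]
        · have e1 : n⁻¹ * (x * y * n * (x * y)⁻¹) =
              (n⁻¹ * (x * n * x⁻¹)) * (x * (n⁻¹ * (y * n * y⁻¹)) * x⁻¹) := by group
          rw [e1, x2 _ (y3 n hn)]
          exact mul_mem (x3 n hn) (y3 n hn)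
      inv_mem' := by
        rintro x ⟨x1, x2, x3⟩
        have x1' : MulAut.conj x⁻¹ • a = a := by
          have := congrArg (fun A => MulAut.conj x⁻¹ • A) x1
          simp only [inv_conj_conj] at this
          exact this.symm
        have hN : ∀ n ∈ NN Z a, x⁻¹ * n * x ∈ NN Z a := by
          intro n hn
          have h1 : MulAut.conj x⁻¹ • NN Z a = NN Z a := by rw [← NN_conj, x1']
          have h2 := mem_conj_self (k := x⁻¹) hn
          rwa [h1, inv_inv] at h2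
        refine ⟨x1', fun i hi => ?_, fun n hn => ?_⟩
        · have h1 := x2 i hi
          have : x⁻¹ * i * x⁻¹⁻¹ = x⁻¹ * (x * i * x⁻¹) * x := by rw [h1]; group
          rw [this]; group
        · have h1 := x3 _ (hN n hn)
          have h2 := inv_mem h1
          have e1 : n⁻¹ * (x⁻¹ * n * x⁻¹⁻¹) = ((x⁻¹ * n * x)⁻¹ * (x * (x⁻¹ * n * x) * x⁻¹))⁻¹ := by group
          rw [e1]
          exact h2 }
  have hJ1 : J ≤ HH a := fun x hx => conj_norm hx.1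
  have hJ2 : HH a ≤ normalizer (J : Set G) := by
    intro g hg
    have key : ∀ g ∈ HH a, ∀ x ∈ J, g * x * g⁻¹ ∈ J := by
      rintro g hg x ⟨x1, x2, x3⟩
      have hga : MulAut.conj g • a = a := norm_conj hg
      have hga' : MulAut.conj g⁻¹ • a = a := norm_conj (inv_mem hg)
      refine ⟨?_, fun i hi => ?_, fun n hn => ?_⟩
      · rw [← conj_conj, ← conj_conj, hga', x1, hga]
      · have h1 := x2 _ (conj_II hga' hi)
        have e1 : g * x * g⁻¹ * i * (g * x * g⁻¹)⁻¹ = g * (x * (g⁻¹ * i * g⁻¹⁻¹) * x⁻¹) * g⁻¹ := by group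
        rw [e1, h1]; group
      · have hn' : g⁻¹ * n * g ∈ NN Z a := by
          have h1 : MulAut.conj g⁻¹ • NN Z a = NN Z a := by rw [← NN_conj, hga']
          have h2 := mem_conj_self (k := g⁻¹) hn
          rwa [h1, inv_inv] at h2
        have h1 := conj_II hga (x3 _ hn')
        have e1 : g * ((g⁻¹ * n * g)⁻¹ * (x * (g⁻¹ * n * g) * x⁻¹)) * g⁻¹ =
            n⁻¹ * (g * x * g⁻¹ * n * (g * x * g⁻¹)⁻¹) := by group
        rwa [e1] at h1
    refine mem_normalizer_iff.2 fun x => ⟨key g hg x, fun hx => ?_⟩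
    have := key g⁻¹ (inv_mem hg) _ hx
    have e : g⁻¹ * (g * x * g⁻¹) * g⁻¹⁻¹ = x := by group
    rwa [e] at this
  have hJ3 : ∀ y ∈ J, y * y ∈ centralizer (NN Z a : Set G) := by
    rintro y ⟨y1, y2, y3⟩
    refine mem_centralizer_iff.2 fun n hn => ?_
    set i : G := n⁻¹ * (y * n * y⁻¹) with hi
    have hiI : i ∈ II Z a := y3 n hn
    have e1 : y * n * y⁻¹ = n * i := by rw [hi]; group
    have e2 : y * y * n * (y * y)⁻¹ = n := by
      calc y * y * n * (y * y)⁻¹ = y * (y * n * y⁻¹) * y⁻¹ := by group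
        _ = y * (n * i) * y⁻¹ := by rw [e1]
        _ = (y * n * y⁻¹) * (y * i * y⁻¹) := by group
        _ = n * (i * i) := by rw [e1, y2 i hiI]; group
        _ = n := by rw [P.sq_one ha (mem_II.1 hiI).1, mul_one]
    calc n * (y * y) = y * y * n * (y * y)⁻¹ * (y * y) := by rw [e2]
      _ = y * y * n := by group
  refine P.core' ha J hJ1 hJ2 hJ3 ⟨?_, fun i hi => ?_, h⟩
  · rw [← conj_conj, P.conj_pt hw hτ, P.conj_pt hw' hτ']
  · have h1 := mem_centralizer_iff.1 ((mem_II.1 hi).2 w hw) τ hτ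
    have h2 := mem_centralizer_iff.1 ((mem_II.1 hi).2 w' hw') τ' hτ'
    calc τ' * τ * i * (τ' * τ)⁻¹ = τ' * (τ * i * τ⁻¹) * τ'⁻¹ := by group
      _ = τ' * i * τ'⁻¹ := by rw [h1, mul_inv_cancel_right]
      _ = i := by rw [h2, mul_inv_cancel_right]

section quot

variable {a : Subgroup G} {M : Type u} [AddCommGroup M] {π : G → M} (ha : IsPt Z a) (q : Qt (NN Z a) a M π)
include ha q

theorem π_mem_pr {n : G} (hn : n ∈ NN Z a) :
    (∀ r ∈ PPa q, π n ∈ pr (Ta q) r) ↔ n ∈ II Z a := by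
  rw [mem_II]
  constructor
  · intro h
    exact ⟨hn, fun r hr => (P.mem_pr q hr hn).1 (h _ ⟨r, hr, rfl⟩)⟩
  · rintro ⟨-, h⟩ _ ⟨r, hr, rfl⟩
    exact (P.mem_pr q hr hn).2 (h r hr)

theorem col_line {i : Fin 2} {k : G} (hk : a = MulAut.conj k • Z i) {y y' : Subgroup G} (hy : IsPt Z y) (hy' : IsPt Z y')
    (h : y ≤ MulAut.conj k • U (i + 1)) (h' : y' ≤ MulAut.conj k • U (i + 1)) (hne : y ≠ y') :
    Col (PPa q) (Ta q) (q.im y) (q.im y') := by
  subst hk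
  have hay := P.adj_of_le hy h
  have hay' := P.adj_of_le hy' h'
  refine ⟨?_, fun v hv hv0 => ?_⟩
  · rw [P.le_pr q hay hay']
    obtain ⟨g, h1, -, h3, -⟩ := P.tr1 hy h
    have h4 := P.line_le_cent i (g * k)
    rw [← conj_conj, ← conj_conj, h1, h3] at h4
    exact h'.trans h4
  · have hsup : q.im (y ⊔ y') = q.im y ⊔ q.im y' := by
      refine q.im_sup hay.le_NN hay'.le_NN fun g hg => mem_sup_of_comm (fun z hz => ?_) hg
      exact mem_centralizer_iff.2 fun x hx => P.abN ha (hay.le_NN hx) (hay'.le_NN hz)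
    rw [← hsup, P.line_eq hy hy' h h' hne] at hv ⊢
    obtain ⟨g, hg, hgN, rfl⟩ := hv
    have hg1 : g ≠ 1 := by
      rintro rfl
      exact hv0 q.one
    obtain ⟨w, hw, hle, hgw⟩ := P.pts1 hg hg1
    exact ⟨q.im w, ⟨w, P.adj_of_le hw hle, rfl⟩, q.π_mem_im hgw hgN, q.im_mono hle⟩

/-- The geometry with lines. -/
theorem geoL : GeoL (PPa q) (Ta q) where
  toGeo := P.geo q
  o2 := by
    rintro _ ⟨w, hw, rfl⟩ _ ⟨w', hw', rfl⟩ t ht t' ht' h m
    obtain ⟨τ, hτ, h1⟩ := (P.mem_Ta q hw).1 ht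
    obtain ⟨τ', hτ', h2⟩ := (P.mem_Ta q hw').1 ht'
    have e0 : ∀ n ∈ NN Z a, t' (t (π n)) = π (τ' * τ * n * (τ' * τ)⁻¹) := by
      intro n hn
      have hn' : τ * n * τ⁻¹ ∈ NN Z a := by
        have := mem_conj_self (k := τ) hn
        rwa [P.conj_NN hw hτ] at this
      rw [h1 n hn, h2 _ hn']
      congr 1
      group
    have hmem : ∀ n ∈ NN Z a, τ' * τ * n * (τ' * τ)⁻¹ ∈ NN Z a := by
      intro n hn
      have h3 : MulAut.conj (τ' * τ) • NN Z a = NN Z a := by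
        rw [← conj_conj, P.conj_NN hw hτ, P.conj_NN hw' hτ']
      rw [← h3]
      exact mem_conj_self hn
    have h3 : τ' * τ ∈ centralizer (NN Z a : Set G) := by
      refine P.o2' ha hw hw' hτ hτ' fun n hn => ?_
      rw [← P.π_mem_pr ha q (mul_mem (inv_mem hn) (hmem n hn))]
      intro r hr
      have h4 := h (π n) r hr
      rw [e0 n hn] at h4
      rw [q.mul _ (inv_mem hn) _ (hmem n hn), q.inv hn]
      have : -π n + π (τ' * τ * n * (τ' * τ)⁻¹) = π (τ' * τ * n * (τ' * τ)⁻¹) - π n := by abel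
      rwa [this]
    obtain ⟨n, hn, rfl⟩ := q.surj m
    rw [e0 n hn, ← mem_centralizer_iff.1 h3 n hn, mul_inv_cancel_right]
  line := by
    rintro _ ⟨w, ⟨i, k, hk, rfl⟩, rfl⟩
    obtain ⟨y, hy, hle, hne⟩ := P.exists_other i k (y := MulAut.conj k • Z (i + 1)) (P.adj_pt ⟨i, k, rfl, rfl⟩)
    subst hk
    have hay := P.adj_of_le hy hle
    refine ⟨q.im y, ⟨y, hay, rfl⟩, fun e => hne (P.im_eq q ⟨i, k, rfl, rfl⟩ hay e).symm, ?_⟩
    exact P.col_line ha q rfl (P.adj_pt ⟨i, k, rfl, rfl⟩) hy (P.pt_le_line i k) hle hne.symm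
  nbr := by
    rintro _ ⟨w, hw, rfl⟩
    obtain ⟨r, hr, h⟩ := P.exists_moved hw
    exact ⟨q.im r, ⟨r, hr, rfl⟩, by rwa [P.le_pr q hw hr]⟩
  top := by
    intro m
    obtain ⟨n, hn, rfl⟩ := q.surj m
    have h1 : NN Z a ≤ q.pre (sSup (PPa q)) := by
      refine sSup_le fun u hu x hx => ⟨hu.le_NN hx, ?_⟩
      exact AddSubgroup.mem_sSup_of_mem (⟨u, hu, rfl⟩ : q.im u ∈ PPa q) (q.π_mem_im hx (hu.le_NN hx))
    exact (h1 hn).2

omit ha in
theorem im_conj_le {t : G} (ht : MulAut.conj t • a = a) {r r' : Subgroup G} (hr : Adj Z a r) (hr' : Adj Z a r') :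
    q.im (MulAut.conj t • r') ≤ pr (Ta q) (q.im (MulAut.conj t • r)) ↔ q.im r' ≤ pr (Ta q) (q.im r) := by
  rw [P.le_pr q (P.adj_conj_of q hr ht) (P.adj_conj_of q hr' ht), P.le_pr q hr hr', NN_conj, ← conj_centralizer,
    conj_le_iff]

omit ha in
theorem cn_conj {t : G} (ht : MulAut.conj t • a = a) {r r' : Subgroup G} (hr : Adj Z a r) (hr' : Adj Z a r')
    (h : Cn (PPa q) (Ta q) (q.im r) (q.im r')) :
    Cn (PPa q) (Ta q) (q.im (MulAut.conj t • r)) (q.im (MulAut.conj t • r')) := by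
  obtain ⟨_, ⟨s, hs, rfl⟩, h1, h2⟩ := h
  refine ⟨_, ⟨_, P.adj_conj_of q hs ht, rfl⟩, ?_, ?_⟩
  · rwa [P.im_conj_le q ht hr hs]
  · rwa [P.im_conj_le q ht hr' hs]

omit ha q in
theorem Bfix' (i : Fin 2) (k : G) : ∃ T : Subgroup G, IsPGroup 2 T ∧ (∀ t ∈ T, MulAut.conj t • (MulAut.conj k • Z i) =
    MulAut.conj k • Z i) ∧ (∀ t ∈ T, MulAut.conj t • (MulAut.conj k • Z (i + 1)) = MulAut.conj k • Z (i + 1)) ∧
    ∀ n ∈ NN Z (MulAut.conj k • Z i), (∀ t ∈ T, t * n * t⁻¹ = n) →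
      n ∈ MulAut.conj k • Z i ⊔ MulAut.conj k • Z (i + 1) := by
  refine ⟨MulAut.conj k • B, ?_, ?_, ?_, ?_⟩
  · exact P.B2.of_equiv (Subgroup.equivSMul (MulAut.conj k) B)
  · intro t ht
    rw [mem_conj] at ht
    have h1 := norm_conj (P.BZ i ht)
    have h2 := congrArg (fun A => MulAut.conj k • A) h1
    simp only [conj_conj] at h2
    have e : k * (k⁻¹ * t * k) = t * k := by group
    rw [e, ← conj_conj] at h2
    exact h2
  · intro t ht
    rw [mem_conj] at ht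
    have h1 := norm_conj (P.BZ (i + 1) ht)
    have h2 := congrArg (fun A => MulAut.conj k • A) h1
    simp only [conj_conj] at h2
    have e : k * (k⁻¹ * t * k) = t * k := by group
    rw [e, ← conj_conj] at h2
    exact h2
  · intro n hn hf
    rw [NN_conj, mem_conj] at hn
    rw [← conj_sup', mem_conj]
    rw [← supZ i]
    refine P.Bfix i _ hn fun b hb => ?_
    have h1 := hf (k * b * k⁻¹) (mem_conj_self hb)
    have e : b * (k⁻¹ * n * k) * b⁻¹ = k⁻¹ * (k * b * k⁻¹ * n * (k * b * k⁻¹)⁻¹) * k := by group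
    rw [e, h1]

/-- **One component** (helper262, (2')) -/
theorem cn_one {u w₁ : Subgroup G} (hu : Adj Z a u) (hw₁ : Adj Z a w₁) : Cn (PPa q) (Ta q) (q.im u) (q.im w₁) := by
  classical
  have gL := P.geoL ha q
  have mP : ∀ r, Adj Z a r → q.im r ∈ PPa q := fun r h => ⟨r, h, rfl⟩
  obtain ⟨i, k, hk, hku⟩ := hu
  have hu : Adj Z a u := ⟨i, k, hk, hku⟩
  by_contra hcon
  obtain ⟨T, hT2, hTa, hTu, hTf⟩ := P.Bfix' i k
  rw [← hk] at hTa hTf
  rw [← hku] at hTu hTf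
  set C : AddSubgroup M := MC (PPa q) (Ta q) (q.im w₁) with hC
  have hTN : ∀ t ∈ T, ∀ x ∈ NN Z a, t * x * t⁻¹ ∈ NN Z a := by
    intro t ht x hx
    have h1 : MulAut.conj t • NN Z a = NN Z a := by rw [← NN_conj, hTa t ht]
    rw [← h1]
    exact mem_conj_self hx
  have hTa' : ∀ t ∈ T, ∀ x ∈ a, t * x * t⁻¹ ∈ a := by
    intro t ht x hx
    have := mem_conj_self (k := t) hx
    rwa [hTa t ht] at this
  -- elements mapping `w₁` into its component
  have hmap : ∀ t ∈ T, Cn (PPa q) (Ta q) (q.im w₁) (q.im (MulAut.conj t • w₁)) →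
      ∀ x ∈ NN Z a, π x ∈ C → π (t * x * t⁻¹) ∈ C := by
    intro t ht hcn x hx hxC
    obtain ⟨φ, hφ⟩ := P.act_ex q (hTa t ht)
    rw [← hφ x hx]
    have h1 : C ≤ C.comap φ.toAddMonoidHom := by
      refine sSup_le ?_
      rintro _ ⟨⟨r, hr, rfl⟩, hr2⟩
      rintro _ ⟨y, hy, hyN, rfl⟩
      change φ (π y) ∈ C
      rw [hφ y hyN]
      have h2 := P.cn_conj q (hTa t ht) hw₁ hr hr2
      have h3 := gL.cn_trans ⟨w₁, hw₁, rfl⟩ ⟨_, P.adj_conj_of q hw₁ (hTa t ht), rfl⟩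
        ⟨_, P.adj_conj_of q hr (hTa t ht), rfl⟩ hcn h2
      refine le_MC (mP _ (P.adj_conj_of q hr (hTa t ht))) h3 ?_
      exact q.π_mem_im (mem_conj_self hy) (hTN t ht y hyN)
    exact h1 hxC
  let T₁ : Subgroup G := T ⊓ normalizer (q.pre C : Set G)
  have hT₁ : ∀ t ∈ T₁, ∀ x ∈ NN Z a, π x ∈ C → π (t * x * t⁻¹) ∈ C := by
    intro t ht x hx hxC
    exact ((mem_normalizer_iff.1 ht.2 x).1 ⟨hx, hxC⟩).2
  obtain ⟨y₀, hy₀, hy₀1⟩ := P.exists_ne (P.adj_pt hw₁)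
  have hw₁C : Cn (PPa q) (Ta q) (q.im w₁) (q.im w₁) := gL.cn_refl ⟨w₁, hw₁, rfl⟩
  obtain ⟨x₀, hx₀N, hx₀C, hx₀0, hx₀T⟩ := q.fixed_vec (T := T₁) (hT2.to_le inf_le_left)
    (fun t ht => hTN t ht.1) (fun t ht => hTa' t ht.1) (C := C) hT₁
    (y := π y₀) (le_MC (mP _ hw₁) hw₁C (q.π_mem_im hy₀ (hw₁.le_NN hy₀))) (P.π_ne q hw₁ hy₀ hy₀1) (by
      rw [← q.mul _ (hw₁.le_NN hy₀) _ (hw₁.le_NN hy₀), P.sq_one ha (hw₁.le_NN hy₀), q.one])
  -- the point of the fixed vector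
  obtain ⟨_, ⟨w, hw, rfl⟩, hcw, x, hx, hxN, hxe⟩ := gL.vec ⟨w₁, hw₁, rfl⟩ (π x₀) hx₀C hx₀0
  have hx1 : x ≠ 1 := by
    rintro rfl
    apply hx₀0
    rw [← hxe, q.one]
  have hxT : ∀ t ∈ T₁, t * x * t⁻¹ = x := by
    intro t ht
    have h1 : π (t * x * t⁻¹) = π x := by
      obtain ⟨φ, hφ⟩ := P.act_ex q (hTa t ht.1)
      rw [← hφ x hxN, hxe, hφ x₀ hx₀N, hx₀T t ht]
    have h2 : MulAut.conj t • w = w := by
      refine P.im_inj q (P.adj_conj_of q hw (hTa t ht.1)) hw (mem_conj_self hx) (fun e => hx1 (conj_eq_one_iff.1 e)) ?_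
      rw [h1]
      exact q.π_mem_im hx hxN
    have h3 : t * x * t⁻¹ ∈ w := by
      have := mem_conj_self (k := t) hx
      rwa [h2] at this
    have h4 : x⁻¹ * (t * x * t⁻¹) ∈ a := (q.eq_iff hxN (hTN t ht.1 x hxN)).1 h1.symm
    have h5 := P.pt_disj q hw (mul_mem (inv_mem hx) h3) h4
    exact (inv_mul_eq_one.1 h5).symm
  -- the orbit
  let O : Finset G := (Set.toFinite {y : G | ∃ t ∈ T, y = t * x * t⁻¹}).toFinset
  have hO : ∀ y, y ∈ O ↔ ∃ t ∈ T, y = t * x * t⁻¹ := fun y => by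
    simp only [O, Set.Finite.mem_toFinset, Set.mem_ofPred_eq]
  obtain ⟨n, hn, hnπ, hnT⟩ := q.exists_prod (fun x hx y hy => P.abN ha hx hy) O (by
    intro y hy
    obtain ⟨t, ht, rfl⟩ := (hO y).1 hy
    exact hTN t ht x hxN)
  have hnau : n ∈ a ⊔ u := by
    refine hTf n hn fun t ht => hnT t fun y hy => ?_
    obtain ⟨t', ht', rfl⟩ := (hO y).1 hy
    exact (hO _).2 ⟨t * t', mul_mem ht ht', by group⟩
  have hnu : π n ∈ q.im u := by
    obtain ⟨α, hα, υ, hυ, rfl⟩ := P.mem_au hu hnau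
    have hυN := hu.le_NN hυ
    have hαN : α ∈ NN Z a := by
      have := mul_mem hn (inv_mem hυN)
      rwa [mul_inv_cancel_right] at this
    rw [q.mul α hαN υ hυN, (q.ker α hαN).2 hα, zero_add]
    exact q.π_mem_im hυ hυN
  -- a neighbour of `w`
  obtain ⟨_, ⟨r, hr, rfl⟩, hrw⟩ := gL.nbr _ ⟨w, hw, rfl⟩
  have hr1 : Cn (PPa q) (Ta q) (q.im w₁) (q.im r) := gL.cn_step ⟨w₁, hw₁, rfl⟩ ⟨w, hw, rfl⟩ ⟨r, hr, rfl⟩ hcw hrw
  have hur : q.im u ≤ pr (Ta q) (q.im r) := by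
    by_contra h
    exact hcon (gL.cn_step ⟨w₁, hw₁, rfl⟩ ⟨r, hr, rfl⟩ ⟨u, hu, rfl⟩ hr1 h).symm
  have hrest : ∀ y ∈ O.erase x, π y ∈ pr (Ta q) (q.im r) := by
    intro y hy
    rw [Finset.mem_erase] at hy
    obtain ⟨hyx, hyO⟩ := hy
    obtain ⟨t, ht, rfl⟩ := (hO y).1 hyO
    by_contra h
    apply hyx
    have h1 : Cn (PPa q) (Ta q) (q.im w₁) (q.im (MulAut.conj t • w)) := by
      refine gL.cn_step ⟨w₁, hw₁, rfl⟩ ⟨r, hr, rfl⟩ ⟨_, P.adj_conj_of q hw (hTa t ht), rfl⟩ hr1 fun h2 => h (h2 ?_)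
      exact q.π_mem_im (mem_conj_self hx) (hTN t ht x hxN)
    have h2 := P.cn_conj q (hTa t ht) hw₁ hw hcw
    have h3 : Cn (PPa q) (Ta q) (q.im w₁) (q.im (MulAut.conj t • w₁)) :=
      gL.cn_trans ⟨w₁, hw₁, rfl⟩ ⟨_, P.adj_conj_of q hw (hTa t ht), rfl⟩ ⟨_, P.adj_conj_of q hw₁ (hTa t ht), rfl⟩ h1
        h2.symm
    refine hxT t ⟨ht, ?_⟩
    refine mem_normalizer_fintype fun y hy => ?_
    have hy' : y ∈ NN Z a ∧ π y ∈ C := hy
    exact (⟨hTN t ht y hy'.1, hmap t ht h3 y hy'.1 hy'.2⟩ : t * y * t⁻¹ ∈ q.pre C)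
  have hxO : x ∈ O := (hO x).2 ⟨1, one_mem _, by group⟩
  rw [← Finset.add_sum_erase O π hxO] at hnπ
  have hx2 : π x ∈ pr (Ta q) (q.im r) := by
    have h1 : π x = π n - ∑ y ∈ O.erase x, π y := by rw [hnπ]; abel
    rw [h1]
    exact sub_mem (hur hnu) (sum_mem hrest)
  have hwr : ¬ q.im w ≤ pr (Ta q) (q.im r) := gL.nsym ⟨w, hw, rfl⟩ ⟨r, hr, rfl⟩ hrw
  exact gL.not_mem ⟨r, hr, rfl⟩ ⟨w, hw, rfl⟩ hwr (q.π_mem_im hx hxN) (P.π_ne q hw hx hx1) hx2

/-- **The geometry has one component.** -/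
theorem geoO : GeoO (PPa q) (Ta q) where
  toGeoL := P.geoL ha q
  cn := by
    rintro _ ⟨w, hw, rfl⟩ _ ⟨w', hw', rfl⟩
    exact P.cn_one ha q hw hw'
  nonempty := by
    obtain ⟨i, k, rfl⟩ := ha
    exact ⟨_, _, ⟨i, k, rfl, rfl⟩, rfl⟩

end quot

end TQL

end Cfsg.Agent.Omega.OM.TV
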